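import Groth.Agent.Lib.Helper6.HyperQI.CoskElem
import Mathlib.CategoryTheory.Sites.Spaces
import Mathlib.CategoryTheory.Sites.Over
import Mathlib.Topology.Sets.Opens
import Mathlib.Topology.Category.TopCat.Basic
import Mathlib.AlgebraicTopology.SimplexCategory.Basic

/-!
# A hypercovering of a topological space by elements of a basis
-/

set_option autoImplicit false
set_option linter.unusedSectionVars false
set_option linter.unusedVariables false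
set_option linter.unusedSimpArgs false
set_option linter.style.haveILetI false
set_option maxHeartbeats 800000

noncomputable section

namespace Groth.Agent.Lib.Helper6.HyperQI

open CategoryTheory Limits SimplexCategory Simplicial Opposite SimplicialObject TopologicalSpace

universe u

section Basis

variable {X : TopCat.{u}} (B : Set (Opens X))

/-- An open subset as an object over the top open. -/
def ov (V : Opens X) : Over (⊤ : Opens X) := Over.mk (homOfLE le_top : V ⟶ ⊤)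

instance overTop_thin (A A' : Over (⊤ : Opens X)) : Subsingleton (A ⟶ A') :=
  ⟨fun f g => Over.OverMorphism.ext (Subsingleton.elim _ _)⟩

/-- The morphism over the top open attached to an inclusion. -/
def ovHom {V V' : Opens X} (h : V ≤ V') : ov V ⟶ ov V' :=
  Over.homMk (homOfLE h) (Subsingleton.elim _ _)

/-- Order-reversing labellings of the simplices of `Δ` by elements of `B`. -/
def SB (Δ : SimplexCategory) : Type u :=
  { W : ∀ Δ' : SimplexCategory, (Δ' ⟶ Δ) → Opens X //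
    (∀ (Δ' : SimplexCategory) (α : Δ' ⟶ Δ), W Δ' α ∈ B) ∧
    ∀ (Δ' Δ'' : SimplexCategory) (α : Δ' ⟶ Δ) (β : Δ'' ⟶ Δ'), W Δ' α ≤ W Δ'' (β ≫ α) }

/-- Pullback of labellings. -/
def pull {Δ₁ Δ₂ : SimplexCategory} (θ : Δ₁ ⟶ Δ₂) (W : SB B Δ₂) : SB B Δ₁ :=
  ⟨fun Δ' α => W.1 Δ' (α ≫ θ), fun Δ' α => W.2.1 Δ' (α ≫ θ), fun Δ' Δ'' α β => by
    have h := W.2.2 Δ' Δ'' (α ≫ θ) β
    rw [← Category.assoc] at h
    exact h⟩

lemma pull_id {Δ : SimplexCategory} (W : SB B Δ) : pull B (𝟙 Δ) W = W := by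
  apply Subtype.ext
  funext Δ' α
  show W.1 Δ' (α ≫ 𝟙 _) = W.1 Δ' α
  rw [Category.comp_id]

lemma pull_comp {Δ₁ Δ₂ Δ₃ : SimplexCategory} (θ₁ : Δ₁ ⟶ Δ₂) (θ₂ : Δ₂ ⟶ Δ₃) (W : SB B Δ₃) :
    pull B (θ₁ ≫ θ₂) W = pull B θ₁ (pull B θ₂ W) := by
  apply Subtype.ext
  funext Δ' α
  show W.1 Δ' (α ≫ θ₁ ≫ θ₂) = W.1 Δ' ((α ≫ θ₁) ≫ θ₂)
  rw [Category.assoc]

/-- The simplicial semi-representable object of labellings. -/
def KB : SimplicialObject (FormalCoproduct.{u} (Over (⊤ : Opens X))) where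
  obj Δ := ⟨SB B Δ.unop, fun W => ov (W.1 Δ.unop (𝟙 _))⟩
  map {Δ Δ'} θ :=
    { f := pull B θ.unop
      φ := fun W => ovHom (by
        have h := W.2.2 Δ.unop Δ'.unop (𝟙 _) θ.unop
        rw [Category.comp_id] at h
        show W.1 Δ.unop (𝟙 _) ≤ W.1 Δ'.unop (𝟙 _ ≫ θ.unop)
        rw [Category.id_comp]
        exact h) }
  map_id Δ := by
    refine FormalCoproduct.hom_ext ?_ (fun i => Subsingleton.elim _ _)
    funext W
    exact pull_id B W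
  map_comp f g := by
    refine FormalCoproduct.hom_ext ?_ (fun i => Subsingleton.elim _ _)
    funext W
    exact pull_comp B g.unop f.unop W

lemma KB_cover (hB : Opens.IsBasis B) :
    Sieve.ofArrows (fun i => (((KB B).obj (op ⦋0⦌)).obj i).left)
      (fun i => (((KB B).obj (op ⦋0⦌)).obj i).hom) ∈ Opens.grothendieckTopology X ⊤ := by
  rw [Opens.mem_grothendieckTopology]
  intro x hx
  obtain ⟨V₀, hV₀, hxV₀, -⟩ := Opens.isBasis_iff_nbhd.1 hB hx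
  let W₀ : SB B ⦋0⦌ := ⟨fun _ _ => V₀, fun _ _ => hV₀, fun _ _ _ _ => le_rfl⟩
  refine ⟨V₀, (((KB B).obj (op ⦋0⦌)).obj W₀).hom, ?_, hxV₀⟩
  exact Sieve.ofArrows_mk (fun i => (((KB B).obj (op ⦋0⦌)).obj i).left)
    (fun i => (((KB B).obj (op ⦋0⦌)).obj i).hom) W₀

lemma lift_exists (n : ℕ) (U : Over (⊤ : Opens X))
    (c : (((cosk n).obj (KB B ⋙ FY)).obj (op ⦋n + 1⦌)).obj (op U))
    (V : Over (⊤ : Opens X)) (g : V ⟶ U) (hV : V.left ∈ B) :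
    ∃ t : ((KB B ⋙ FY).obj (op ⦋n + 1⦌)).obj (op V),
      (((coskAdj n).unit.app (KB B ⋙ FY)).app (op ⦋n + 1⦌)).app (op V) t =
        (((cosk n).obj (KB B ⋙ FY)).obj (op ⦋n + 1⦌)).map g.op c := by
  have hex : ∀ (Δ' : SimplexCategory) (h : Δ'.len ≤ n) (θ : Δ' ⟶ ⦋n + 1⦌),
      ∃ (W : SB B Δ') (u : U ⟶ ov (W.1 Δ' (𝟙 _))),
        sig ((KB B).obj (op Δ')) U W u =
          (coskProj (KB B ⋙ FY) n Δ' h θ).app (op U) c :=
    fun Δ' h θ => sig_surj ((KB B).obj (op Δ')) U _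
  choose Wc uc hc using hex
  have compat : ∀ (Δ' Δ'' : SimplexCategory) (h : Δ'.len ≤ n) (h'' : Δ''.len ≤ n)
      (θ : Δ' ⟶ ⦋n + 1⦌) (β : Δ'' ⟶ Δ'),
      pull B β (Wc Δ' h θ) = Wc Δ'' h'' (β ≫ θ) := by
    intro Δ' Δ'' h h'' θ β
    have e1 : ((KB B ⋙ FY).map β.op).app (op U)
        ((coskProj (KB B ⋙ FY) n Δ' h θ).app (op U) c) =
        (coskProj (KB B ⋙ FY) n Δ'' h'' (β ≫ θ)).app (op U) c :=
      types_congr_hom (congr_app (proj_comp (KB B ⋙ FY) n Δ' Δ'' h h'' θ β) (op U)) c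
    rw [← hc Δ' h θ, ← hc Δ'' h'' (β ≫ θ)] at e1
    have e2 : ((KB B ⋙ FY).map β.op).app (op U)
        (sig ((KB B).obj (op Δ')) U (Wc Δ' h θ) (uc Δ' h θ)) =
        sig ((KB B).obj (op Δ'')) U (pull B β (Wc Δ' h θ))
          (uc Δ' h θ ≫ ((KB B).map β.op).φ (Wc Δ' h θ)) :=
      FY_map_sig ((KB B).map β.op) U (Wc Δ' h θ) (uc Δ' h θ)
    have e3 := sig_inj ((KB B).obj (op Δ'')) U _ _ (e2.symm.trans e1)
    exact congrArg Sigma.fst e3
  have Ubound : ∀ (Δ' : SimplexCategory) (h : Δ'.len ≤ n) (θ : Δ' ⟶ ⦋n + 1⦌)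
      (Δ'' : SimplexCategory) (α : Δ'' ⟶ Δ'), U.left ≤ (Wc Δ' h θ).1 Δ'' α := by
    intro Δ' h θ Δ'' α
    have h1 : U.left ≤ (Wc Δ' h θ).1 Δ' (𝟙 _) := leOfHom (uc Δ' h θ).left
    have h2 := (Wc Δ' h θ).2.2 Δ' Δ'' (𝟙 _) α
    rw [Category.comp_id] at h2
    exact h1.trans h2
  have hVU : V.left ≤ U.left := leOfHom g.left
  obtain ⟨W', hW'⟩ : ∃ W' : ∀ Δ' : SimplexCategory, (Δ' ⟶ ⦋n + 1⦌) → Opens X,
      ∀ (Δ' : SimplexCategory) (α : Δ' ⟶ ⦋n + 1⦌), W' Δ' α =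
        if h : (image α).len ≤ n then
          (Wc (image α) h (image.ι α)).1 Δ' (factorThruImage α)
        else V.left := ⟨_, fun _ _ => rfl⟩
  have L2 : ∀ (Δ₁ : SimplexCategory) (h₁ : Δ₁.len ≤ n) (θ₁ : Δ₁ ⟶ ⦋n + 1⦌)
      (Δ' : SimplexCategory) (ρ : Δ' ⟶ Δ₁), W' Δ' (ρ ≫ θ₁) = (Wc Δ₁ h₁ θ₁).1 Δ' ρ := by
    intro Δ₁ h₁ θ₁ Δ' ρ
    let F' : MonoFactorisation (ρ ≫ θ₁) :=
      { I := image θ₁
        m := image.ι θ₁
        e := ρ ≫ factorThruImage θ₁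
        fac := by rw [Category.assoc, image.fac] }
    have hι : image.lift F' ≫ image.ι θ₁ = image.ι (ρ ≫ θ₁) := image.lift_fac F'
    have hfac : factorThruImage (ρ ≫ θ₁) ≫ image.lift F' = ρ ≫ factorThruImage θ₁ :=
      image.fac_lift F'
    haveI : Mono (image.lift F') := mono_of_mono_fac hι
    have hlen1 : (image θ₁).len ≤ Δ₁.len := len_le_of_epi (factorThruImage θ₁)
    have hlen2 : (image (ρ ≫ θ₁)).len ≤ (image θ₁).len := len_le_of_mono (image.lift F')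
    have hθ : (image θ₁).len ≤ n := hlen1.trans h₁
    have hα : (image (ρ ≫ θ₁)).len ≤ n := hlen2.trans hθ
    rw [hW', dif_pos hα]
    have c1 : pull B (image.lift F') (Wc (image θ₁) hθ (image.ι θ₁)) =
        Wc (image (ρ ≫ θ₁)) hα (image.ι (ρ ≫ θ₁)) := by
      rw [compat (image θ₁) (image (ρ ≫ θ₁)) hθ hα (image.ι θ₁) (image.lift F')]
      exact congrArg (Wc (image (ρ ≫ θ₁)) hα) hι
    have c2 : pull B (factorThruImage θ₁) (Wc (image θ₁) hθ (image.ι θ₁)) = Wc Δ₁ h₁ θ₁ := by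
      rw [compat (image θ₁) Δ₁ hθ h₁ (image.ι θ₁) (factorThruImage θ₁)]
      exact congrArg (Wc Δ₁ h₁) (image.fac θ₁)
    rw [← c1, ← c2]
    show (Wc (image θ₁) hθ (image.ι θ₁)).1 Δ' (factorThruImage (ρ ≫ θ₁) ≫ image.lift F') =
      (Wc (image θ₁) hθ (image.ι θ₁)).1 Δ' (ρ ≫ factorThruImage θ₁)
    rw [hfac]
  have hV₀le : ∀ (Δ' : SimplexCategory) (α : Δ' ⟶ ⦋n + 1⦌), V.left ≤ W' Δ' α := by
    intro Δ' α
    rw [hW']
    split_ifs with h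
    · exact hVU.trans (Ubound (image α) h (image.ι α) Δ' (factorThruImage α))
    · exact le_rfl
  have hP1 : ∀ (Δ' : SimplexCategory) (α : Δ' ⟶ ⦋n + 1⦌), W' Δ' α ∈ B := by
    intro Δ' α
    rw [hW']
    split_ifs with h
    · exact (Wc (image α) h (image.ι α)).2.1 Δ' (factorThruImage α)
    · exact hV
  have hP2 : ∀ (Δ' Δ'' : SimplexCategory) (α : Δ' ⟶ ⦋n + 1⦌) (β : Δ'' ⟶ Δ'),
      W' Δ' α ≤ W' Δ'' (β ≫ α) := by
    intro Δ' Δ'' α β
    by_cases h : (image α).len ≤ n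
    · have e1 : W' Δ' α = (Wc (image α) h (image.ι α)).1 Δ' (factorThruImage α) := by
        rw [hW', dif_pos h]
      have e2 : W' Δ'' (β ≫ α) =
          (Wc (image α) h (image.ι α)).1 Δ'' (β ≫ factorThruImage α) := by
        have h3 := L2 (image α) h (image.ι α) Δ'' (β ≫ factorThruImage α)
        rw [Category.assoc, image.fac] at h3
        exact h3
      rw [e1, e2]
      exact (Wc (image α) h (image.ι α)).2.2 Δ' Δ'' (factorThruImage α) β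
    · have e1 : W' Δ' α = V.left := by
        rw [hW', dif_neg h]
      rw [e1]
      exact hV₀le Δ'' (β ≫ α)
  obtain ⟨W'', hW''⟩ : ∃ W'' : SB B ⦋n + 1⦌, W''.1 = W' := ⟨⟨W', hP1, hP2⟩, rfl⟩
  have hP3 : ∀ (Δ₁ : SimplexCategory) (h₁ : Δ₁.len ≤ n) (θ₁ : Δ₁ ⟶ ⦋n + 1⦌),
      pull B θ₁ W'' = Wc Δ₁ h₁ θ₁ := by
    intro Δ₁ h₁ θ₁
    apply Subtype.ext
    funext Δ' ρ
    show W''.1 Δ' (ρ ≫ θ₁) = (Wc Δ₁ h₁ θ₁).1 Δ' ρ
    rw [hW'']
    exact L2 Δ₁ h₁ θ₁ Δ' ρ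
  have hv : V.left ≤ W''.1 ⦋n + 1⦌ (𝟙 _) := by
    rw [hW'']
    exact hV₀le ⦋n + 1⦌ (𝟙 _)
  obtain ⟨v⟩ : Nonempty (V ⟶ ((KB B).obj (op ⦋n + 1⦌)).obj W'') :=
    ⟨Over.homMk (homOfLE hv) (Subsingleton.elim _ _)⟩
  refine ⟨sig ((KB B).obj (op ⦋n + 1⦌)) V W'' v, ?_⟩
  apply cosk_ext (KB B ⋙ FY) n
  intro Δ₁ h₁ θ₁
  have el := types_congr_hom (congr_app (proj_unit (KB B ⋙ FY) n Δ₁ h₁ θ₁) (op V))
    (sig ((KB B).obj (op ⦋n + 1⦌)) V W'' v)
  have el2 := FY_map_sig ((KB B).map θ₁.op) V W'' v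
  have er := NatTrans.naturality_apply (coskProj (KB B ⋙ FY) n Δ₁ h₁ θ₁) g.op c
  have er2 : ((KB B ⋙ FY).obj (op Δ₁)).map g.op
      ((coskProj (KB B ⋙ FY) n Δ₁ h₁ θ₁).app (op U) c) =
      sig ((KB B).obj (op Δ₁)) V (Wc Δ₁ h₁ θ₁) (g ≫ uc Δ₁ h₁ θ₁) := by
    rw [← hc Δ₁ h₁ θ₁]
    exact map_sig ((KB B).obj (op Δ₁)) g (Wc Δ₁ h₁ θ₁) (uc Δ₁ h₁ θ₁)
  exact el.trans (el2.trans ((sig_congr ((KB B).obj (op Δ₁)) V (hP3 Δ₁ h₁ θ₁) _ _).trans
    (er.trans er2).symm))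

theorem KB_unit_locSurj (hB : Opens.IsBasis B) (n : ℕ) :
    Presheaf.IsLocallySurjective ((Opens.grothendieckTopology X).over ⊤)
      (((coskAdj n).unit.app (KB B ⋙ FY)).app (op ⦋n + 1⦌)) where
  imageSieve_mem {U} c := by
    rw [GrothendieckTopology.mem_over_iff, Opens.mem_grothendieckTopology]
    intro x hx
    obtain ⟨V₀, hV₀, hxV₀, hV₀U⟩ := Opens.isBasis_iff_nbhd.1 hB hx
    refine ⟨V₀, homOfLE hV₀U, ?_, hxV₀⟩
    rw [Sieve.overEquiv_iff]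
    exact lift_exists B n U c (Over.mk (homOfLE hV₀U ≫ U.hom)) (Over.homMk (homOfLE hV₀U)) hV₀

theorem exists_hypercovering_basis (hB : Opens.IsBasis B)
    [∀ (n : ℕ) (F : (SimplexCategory.Truncated n)ᵒᵖ ⥤
        FormalCoproduct.{u} (Over (⊤ : Opens X))),
      (SimplexCategory.Truncated.inclusion n).op.HasRightKanExtension F] :
    Hyper.IsHypercovering (Opens.grothendieckTopology X) ⊤ (KB B) ∧
      ∀ (n : ℕ) (i : ((KB B).obj (op ⦋n⦌)).I), (((KB B).obj (op ⦋n⦌)).obj i).left ∈ B := by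
  refine And.intro (And.intro (KB_cover B hB) (fun n => ?_)) (fun n i => i.2.1 _ _)
  exact isSRCovering_unit_of_locSurj _ (KB B) n (KB_unit_locSurj B hB n)

end Basis

end Groth.Agent.Lib.Helper6.HyperQI
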