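import Mathlib.CategoryTheory.Sites.SheafCohomology.Cech
import Mathlib.Algebra.Homology.HomologicalComplexAbelian
import Mathlib.Algebra.Homology.HomologySequence
import Mathlib.Algebra.Homology.ShortComplex.Ab
import Mathlib.Algebra.Category.Grp.Abelian
import Mathlib.Algebra.Category.Grp.Limits
import Mathlib.Algebra.Category.Grp.EpiMono
import Mathlib.CategoryTheory.Limits.Shapes.ConcreteCategory

/-!
# The Čech complex functor of a simplicial semi-representable object is exact on presheaves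
-/

set_option autoImplicit false
set_option linter.unusedSectionVars false
set_option linter.unusedVariables false
set_option linter.unusedSimpArgs false
set_option linter.style.haveILetI false
set_option maxHeartbeats 800000

noncomputable section

namespace Groth.Agent.Lib.Helper6.HyperQI

open CategoryTheory Limits Simplicial Opposite

universe u

section Prod

variable {ι : Type u}

lemma abPi_ext {f : ι → AddCommGrpCat.{u}} (x y : ↑(∏ᶜ f))
    (h : ∀ i, Pi.π f i x = Pi.π f i y) : x = y := by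
  apply (Concrete.productEquiv f).injective
  funext i
  rw [Concrete.productEquiv_apply_apply, Concrete.productEquiv_apply_apply]
  exact h i

lemma abPi_mk {f : ι → AddCommGrpCat.{u}} (x : ∀ i, ↑(f i)) :
    ∃ y : ↑(∏ᶜ f), ∀ i, Pi.π f i y = x i :=
  ⟨(Concrete.productEquiv f).symm x, fun i => Concrete.productEquiv_symm_apply_π f x i⟩

lemma abPi_map_π {f g : ι → AddCommGrpCat.{u}} (p : ∀ i, f i ⟶ g i) (i : ι) (x : ↑(∏ᶜ f)) :
    Pi.π g i (Limits.Pi.map p x) = p i (Pi.π f i x) :=
  ConcreteCategory.congr_hom (Pi.map_π p i) x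

lemma ab_add_neg_apply {A B : AddCommGrpCat.{u}} (f g : A ⟶ B) (y : A) (h : f y = g y) :
    (f + -g) y = 0 := by
  show f y + -(g y) = 0
  rw [h]
  exact add_neg_cancel _

lemma abPi_shortExact {f g h : ι → AddCommGrpCat.{u}} (a : ∀ i, f i ⟶ g i) (b : ∀ i, g i ⟶ h i)
    (w : Limits.Pi.map a ≫ Limits.Pi.map b = 0)
    (ha : ∀ i, Function.Injective (a i)) (hb : ∀ i, Function.Surjective (b i))
    (hab : ∀ i (y : ↑(g i)), b i y = 0 → ∃ x, a i x = y) :
    (ShortComplex.mk (Limits.Pi.map a) (Limits.Pi.map b) w).ShortExact := by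
  have hmono : Mono (Limits.Pi.map a) := by
    rw [AddCommGrpCat.mono_iff_injective]
    intro x x' hx
    refine abPi_ext x x' (fun i => ha i ?_)
    rw [← abPi_map_π, ← abPi_map_π, hx]
  have hepi : Epi (Limits.Pi.map b) := by
    rw [AddCommGrpCat.epi_iff_surjective]
    intro y
    choose x hx using fun i => hb i (Pi.π h i y)
    obtain ⟨x', hx'⟩ := abPi_mk x
    refine ⟨x', abPi_ext _ _ (fun i => ?_)⟩
    rw [abPi_map_π, hx', hx]
  refine ShortComplex.ShortExact.mk' ?_ hmono hepi
  rw [ShortComplex.ab_exact_iff]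
  intro y hy
  have hy' : Limits.Pi.map b y = 0 := hy
  have hyi : ∀ i, b i (Pi.π g i y) = 0 := by
    intro i
    rw [← abPi_map_π, hy', map_zero]
  choose x hx using fun i => hab i (Pi.π g i y) (hyi i)
  obtain ⟨x', hx'⟩ := abPi_mk x
  refine ⟨x', ?_⟩
  show Limits.Pi.map a x' = y
  refine abPi_ext _ _ (fun i => ?_)
  rw [abPi_map_π, hx', hx]

end Prod

section Cech

variable {D : Type u} [SmallCategory D] (K : SimplicialObject (FormalCoproduct.{u} D))

lemma ccf_map_f {P Q : Dᵒᵖ ⥤ AddCommGrpCat.{u}} (α : P ⟶ Q) (n : ℕ) :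
    ((FormalCoproduct.cochainComplexFunctor K).map α).f n =
      Limits.Pi.map (fun i : (K.obj (op ⦋n⦌)).I => α.app (op ((K.obj (op ⦋n⦌)).obj i))) := rfl

lemma ccf_map_zero (P Q : Dᵒᵖ ⥤ AddCommGrpCat.{u}) :
    (FormalCoproduct.cochainComplexFunctor K).map (0 : P ⟶ Q) = 0 := by
  apply HomologicalComplex.hom_ext
  intro n
  show Limits.Pi.map (fun i : (K.obj (op ⦋n⦌)).I =>
    (0 : P ⟶ Q).app (op ((K.obj (op ⦋n⦌)).obj i))) = 0
  refine Pi.hom_ext _ _ (fun i => ?_)
  rw [Limits.Pi.map_π, zero_comp]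
  exact comp_zero

lemma ccf_w {P₁ P₂ P₃ : Dᵒᵖ ⥤ AddCommGrpCat.{u}} (a : P₁ ⟶ P₂) (b : P₂ ⟶ P₃) (w : a ≫ b = 0) :
    (FormalCoproduct.cochainComplexFunctor K).map a ≫
      (FormalCoproduct.cochainComplexFunctor K).map b = 0 := by
  rw [← Functor.map_comp, w, ccf_map_zero]

/-- The Čech complexes of a pointwise short exact sequence of presheaves form a short exact
sequence of complexes. -/
theorem cech_shortExact {P₁ P₂ P₃ : Dᵒᵖ ⥤ AddCommGrpCat.{u}} (a : P₁ ⟶ P₂) (b : P₂ ⟶ P₃)
    (w : a ≫ b = 0)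
    (ha : ∀ V : D, Function.Injective (a.app (op V)))
    (hb : ∀ V : D, Function.Surjective (b.app (op V)))
    (hab : ∀ (V : D) (y : P₂.obj (op V)), b.app (op V) y = 0 → ∃ x, a.app (op V) x = y) :
    (ShortComplex.mk ((FormalCoproduct.cochainComplexFunctor K).map a)
      ((FormalCoproduct.cochainComplexFunctor K).map b) (ccf_w K a b w)).ShortExact := by
  apply HomologicalComplex.shortExact_of_degreewise_shortExact
  intro n
  exact abPi_shortExact (fun i : (K.obj (op ⦋n⦌)).I => a.app (op ((K.obj (op ⦋n⦌)).obj i)))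
    (fun i : (K.obj (op ⦋n⦌)).I => b.app (op ((K.obj (op ⦋n⦌)).obj i))) _
    (fun i => ha _) (fun i => hb _) (fun i => hab _)

end Cech

end Groth.Agent.Lib.Helper6.HyperQI
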