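import Groth.Agent.Lib.Helper6.HyperQI.CechHom
import Groth.Agent.Lib.Helper6.HyperQI.CechSES

/-!
# Degree-zero Čech cocycles of a sheaf with respect to a hypercovering are global sections
-/

set_option autoImplicit false
set_option linter.unusedSectionVars false
set_option linter.unusedVariables false
set_option linter.unusedSimpArgs false
set_option linter.style.haveILetI false
set_option maxHeartbeats 800000

noncomputable section

namespace Groth.Agent.Lib.Helper6.HyperQI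

open CategoryTheory Limits SimplexCategory Simplicial Opposite SimplicialObject AlgebraicTopology

universe u

section General

lemma factor_of_isIso_homologyMap₀ {𝒜 : Type*} [Category 𝒜] [Abelian 𝒜]
    {A B : ChainComplex 𝒜 ℕ} (τ : A ⟶ B)
    [IsIso (HomologicalComplex.homologyMap τ 0)] {G : 𝒜} (φ : A.X 0 ⟶ G)
    (hφ : A.d 1 0 ≫ φ = 0) :
    ∃ χ : B.X 0 ⟶ G, φ = τ.f 0 ≫ χ := by
  haveI : IsIso (HomologicalComplex.opcyclesMap τ 0) := by
    have e : HomologicalComplex.opcyclesMap τ 0 =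
        inv (A.homologyι 0) ≫ HomologicalComplex.homologyMap τ 0 ≫ B.homologyι 0 := by
      rw [HomologicalComplex.homologyι_naturality, IsIso.inv_hom_id_assoc]
    rw [e]
    infer_instance
  refine ⟨B.pOpcycles 0 ≫ inv (HomologicalComplex.opcyclesMap τ 0) ≫
    A.descOpcycles φ 1 (by simp) hφ, ?_⟩
  have h1 : A.pOpcycles 0 ≫ A.descOpcycles φ 1 (by simp) hφ = φ :=
    A.p_descOpcycles φ 1 (by simp) hφ
  have h2 : A.pOpcycles 0 ≫ HomologicalComplex.opcyclesMap τ 0 = τ.f 0 ≫ B.pOpcycles 0 :=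
    HomologicalComplex.p_opcyclesMap τ 0
  rw [← Category.assoc, ← h2, Category.assoc, IsIso.hom_inv_id_assoc, h1]

lemma cofaceCx_d' {𝒜 : Type*} [Category 𝒜] [Abelian 𝒜] (S : SimplicialObject 𝒜)
    (F : 𝒜ᵒᵖ ⥤ AddCommGrpCat.{u}) [F.Additive] (n : ℕ) :
    ((alternatingCofaceMapComplex AddCommGrpCat.{u}).obj (S.rightOp ⋙ F)).d n (n + 1) =
      F.map (((alternatingFaceMapComplex 𝒜).obj S).d (n + 1) n).op := by
  have h1 : ((alternatingCofaceMapComplex AddCommGrpCat.{u}).obj (S.rightOp ⋙ F)).d n (n + 1) =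
      AlternatingCofaceMapComplex.objD (S.rightOp ⋙ F) n :=
    CochainComplex.of_d (fun n => (S.rightOp ⋙ F).obj ⦋n⦌)
      (AlternatingCofaceMapComplex.objD (S.rightOp ⋙ F)) n
  have h2 : ((alternatingFaceMapComplex 𝒜).obj S).d (n + 1) n =
      AlternatingFaceMapComplex.objD S n :=
    AlternatingFaceMapComplex.obj_d_eq S n
  rw [h1, h2]
  simp only [AlternatingCofaceMapComplex.objD, AlternatingFaceMapComplex.objD, op_sum, op_zsmul,
    Functor.map_sum, Functor.map_zsmul]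
  rfl

end General

section Site

variable {D : Type u} [SmallCategory D] (JD : GrothendieckTopology D)

lemma exists_factor_pt (P : SimplicialObject (Dᵒᵖ ⥤ Type u))
    (h0 : LocNonempty JD (P.obj (op ⦋0⦌)))
    (hn : ∀ n : ℕ,
      Presheaf.IsLocallySurjective JD (((coskAdj n).unit.app P).app (op ⦋n + 1⦌)))
    (G : Sheaf JD AddCommGrpCat.{u})
    (φ : (Lsh JD).obj (P.obj (op ⦋0⦌)) ⟶ G)
    (hφ : ((alternatingFaceMapComplex (Sheaf JD AddCommGrpCat.{u})).obj
      (P ⋙ (Fr D ⋙ presheafToSheaf JD AddCommGrpCat.{u}))).d 1 0 ≫ φ = 0) :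
    ∃ (t : P ⟶ ptS (D := D)) (χ : ptA JD ⟶ G),
      φ = (Lsh JD).map (t.app (op ⦋0⦌)) ≫ χ := by
  obtain ⟨t, ht⟩ := exists_QI JD P h0 hn 0
  unfold QI at ht
  haveI := ht
  obtain ⟨χ, hχ⟩ := factor_of_isIso_homologyMap₀
    ((alternatingFaceMapComplex (Sheaf JD AddCommGrpCat.{u})).map
      (Functor.whiskerRight t (Fr D ⋙ presheafToSheaf JD AddCommGrpCat.{u}))) φ hφ
  exact ⟨t, χ, hχ⟩

variable (K : SimplicialObject (FormalCoproduct.{u} D))

/-- Every degree-zero Čech cocycle of a sheaf with respect to a hypercovering comes from a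
section over the terminal object. -/
theorem cech_zero_cocycle (G : Sheaf JD AddCommGrpCat.{u})
    (h0 : LocNonempty JD ((K ⋙ FY).obj (op ⦋0⦌)))
    (hn : ∀ n : ℕ, Presheaf.IsLocallySurjective JD
      (((coskAdj n).unit.app (K ⋙ FY)).app (op ⦋n + 1⦌)))
    {T : D} (hT : IsTerminal T)
    (z : ↑((Hyper.cechCxSite K G.obj).X 0))
    (hz : (Hyper.cechCxSite K G.obj).d 0 1 z = 0) :
    ∃ s : G.obj.obj (op T), ∀ i : (K.obj (op ⦋0⦌)).I,
      Pi.π (fun i : (K.obj (op ⦋0⦌)).I => G.obj.obj (op ((K.obj (op ⦋0⦌)).obj i))) i z =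
        G.obj.map (hT.from ((K.obj (op ⦋0⦌)).obj i)).op s := by
  let e := (alternatingCofaceMapComplex AddCommGrpCat.{u}).mapIso (cosimpIso JD G K)
  obtain ⟨φ, hφdef⟩ : ∃ φ : (Lsh JD).obj (FY.obj (K.obj (op ⦋0⦌))) ⟶ G, φ = e.inv.f 0 z :=
    ⟨_, rfl⟩
  have hφ : ((alternatingFaceMapComplex (Sheaf JD AddCommGrpCat.{u})).obj
      ((K ⋙ FY) ⋙ (Fr D ⋙ presheafToSheaf JD AddCommGrpCat.{u}))).d 1 0 ≫ φ = 0 := by
    have h1 := ConcreteCategory.congr_hom (e.inv.comm 0 1) z
    have h2 : ((alternatingCofaceMapComplex AddCommGrpCat.{u}).obj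
        ((Hyper.freeSimplicialSheaf JD K).rightOp ⋙ preadditiveYoneda.obj G)).d 0 1
        (e.inv.f 0 z) = 0 := by
      refine h1.trans ?_
      show e.inv.f 1 ((Hyper.cechCxSite K G.obj).d 0 1 z) = 0
      exact (congrArg (fun t => e.inv.f 1 t) hz).trans (map_zero (e.inv.f 1).hom)
    have h3 : ((alternatingCofaceMapComplex AddCommGrpCat.{u}).obj
        ((Hyper.freeSimplicialSheaf JD K).rightOp ⋙ preadditiveYoneda.obj G)).d 0 1 =
        (preadditiveYoneda.obj G).map
          (((alternatingFaceMapComplex (Sheaf JD AddCommGrpCat.{u})).obj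
            (Hyper.freeSimplicialSheaf JD K)).d 1 0).op :=
      cofaceCx_d' (Hyper.freeSimplicialSheaf JD K) (preadditiveYoneda.obj G) 0
    have h4 := (ConcreteCategory.congr_hom h3 (e.inv.f 0 z)).symm.trans h2
    rw [hφdef]
    exact h4
  obtain ⟨t, χ, hχ⟩ := exists_factor_pt JD (K ⋙ FY) h0 hn G φ hφ
  refine ⟨χ.hom.app (op T) (gen JD ((Functor.const Dᵒᵖ).obj PUnit.{u + 1}) T PUnit.unit),
    fun i => ?_⟩
  have hz1 : z = PsiApp JD G (K.obj (op ⦋0⦌)) φ := by
    rw [hφdef]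
    exact (ConcreteCategory.congr_hom (HomologicalComplex.congr_hom e.inv_hom_id 0) z).symm
  have e1 : Pi.π (fun i : (K.obj (op ⦋0⦌)).I => G.obj.obj (op ((K.obj (op ⦋0⦌)).obj i))) i z =
      evHom JD G (K.obj (op ⦋0⦌)) i φ := by
    rw [hz1]
    exact PsiApp_π JD G (K.obj (op ⦋0⦌)) i φ
  have e2 : evHom JD G (K.obj (op ⦋0⦌)) i φ =
      χ.hom.app (op ((K.obj (op ⦋0⦌)).obj i))
        (gen JD ((Functor.const Dᵒᵖ).obj PUnit.{u + 1}) ((K.obj (op ⦋0⦌)).obj i)
          PUnit.unit) := by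
    rw [hχ]
    exact congrArg (fun y => χ.hom.app (op ((K.obj (op ⦋0⦌)).obj i)) y)
      (gen_nat_obj JD (t.app (op ⦋0⦌)) ((K.obj (op ⦋0⦌)).obj i)
        (sig (K.obj (op ⦋0⦌)) ((K.obj (op ⦋0⦌)).obj i) i (𝟙 _)))
  have e3 : G.obj.map (hT.from ((K.obj (op ⦋0⦌)).obj i)).op
      (χ.hom.app (op T) (gen JD ((Functor.const Dᵒᵖ).obj PUnit.{u + 1}) T PUnit.unit)) =
      χ.hom.app (op ((K.obj (op ⦋0⦌)).obj i))
        (gen JD ((Functor.const Dᵒᵖ).obj PUnit.{u + 1}) ((K.obj (op ⦋0⦌)).obj i)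
          PUnit.unit) :=
    (NatTrans.naturality_apply χ.hom (hT.from ((K.obj (op ⦋0⦌)).obj i)).op
      (gen JD ((Functor.const Dᵒᵖ).obj PUnit.{u + 1}) T PUnit.unit)).symm.trans
      (congrArg (fun y => χ.hom.app (op ((K.obj (op ⦋0⦌)).obj i)) y)
        (gen_nat_map JD ((Functor.const Dᵒᵖ).obj PUnit.{u + 1})
          (hT.from ((K.obj (op ⦋0⦌)).obj i)) PUnit.unit))
  exact e1.trans (e2.trans e3.symm)

lemma coface_aug (G' : Dᵒᵖ ⥤ AddCommGrpCat.{u}) {T : D} (hT : IsTerminal T)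
    (r : G'.obj (op T))
    (y : ↑(((FormalCoproduct.evalOp D AddCommGrpCat.{u}).obj G').obj (op (K.obj (op ⦋0⦌)))))
    (hy : ∀ i, Pi.π (fun i : (K.obj (op ⦋0⦌)).I => G'.obj (op ((K.obj (op ⦋0⦌)).obj i))) i y =
      G'.map (hT.from ((K.obj (op ⦋0⦌)).obj i)).op r)
    (k : Fin 2) (j : (K.obj (op ⦋1⦌)).I) :
    Pi.π (fun j : (K.obj (op ⦋1⦌)).I => G'.obj (op ((K.obj (op ⦋1⦌)).obj j))) j
      (((FormalCoproduct.evalOp D AddCommGrpCat.{u}).obj G').map (K.δ k).op y) =
      G'.map (hT.from ((K.obj (op ⦋1⦌)).obj j)).op r := by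
  refine (evalOp_map_π G' (K.δ k).op j y).trans ?_
  refine (congrArg (fun t => G'.map ((K.δ k).φ j).op t) (hy ((K.δ k).f j))).trans ?_
  have e : (hT.from ((K.obj (op ⦋0⦌)).obj ((K.δ k).f j))).op ≫ ((K.δ k).φ j).op =
      (hT.from ((K.obj (op ⦋1⦌)).obj j)).op := by
    rw [← op_comp]
    exact congrArg Quiver.Hom.op (hT.hom_ext _ _)
  have e2 := ConcreteCategory.congr_hom
    (G'.map_comp (hT.from ((K.obj (op ⦋0⦌)).obj ((K.δ k).f j))).op ((K.δ k).φ j).op) r
  exact e2.symm.trans (congrArg (fun m => G'.map m r) e)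

lemma cech_d0_aug (G' : Dᵒᵖ ⥤ AddCommGrpCat.{u}) {T : D} (hT : IsTerminal T)
    (r : G'.obj (op T))
    (y : ↑((Hyper.cechCxSite K G').X 0))
    (hy : ∀ i, Pi.π (fun i : (K.obj (op ⦋0⦌)).I => G'.obj (op ((K.obj (op ⦋0⦌)).obj i))) i y =
      G'.map (hT.from ((K.obj (op ⦋0⦌)).obj i)).op r) :
    (Hyper.cechCxSite K G').d 0 1 y = 0 := by
  have hd : (Hyper.cechCxSite K G').d 0 1 =
      AlternatingCofaceMapComplex.objD ((FormalCoproduct.cosimplicialObjectFunctor K).obj G') 0 :=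
    CochainComplex.of_d
      (fun n => ((FormalCoproduct.cosimplicialObjectFunctor K).obj G').obj ⦋n⦌)
      (AlternatingCofaceMapComplex.objD ((FormalCoproduct.cosimplicialObjectFunctor K).obj G')) 0
  have hδ : ((FormalCoproduct.cosimplicialObjectFunctor K).obj G').δ (0 : Fin 2) y =
      ((FormalCoproduct.cosimplicialObjectFunctor K).obj G').δ (1 : Fin 2) y := by
    refine abPi_ext (f := fun j : (K.obj (op ⦋1⦌)).I => G'.obj (op ((K.obj (op ⦋1⦌)).obj j)))
      _ _ (fun j => ?_)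
    exact (coface_aug K G' hT r y hy 0 j).trans (coface_aug K G' hT r y hy 1 j).symm
  rw [hd, AlternatingCofaceMapComplex.objD, Fin.sum_univ_two, Fin.val_zero, pow_zero, one_smul,
    Fin.val_one, pow_one, neg_smul, one_smul]
  exact ab_add_neg_apply _ _ y hδ

/-- The map on degree-zero Čech cohomology induced by a morphism to a sheaf which is surjective
on sections over the terminal object is an epimorphism. -/
theorem epi_homologyMap_zero
    (h0 : LocNonempty JD ((K ⋙ FY).obj (op ⦋0⦌)))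
    (hn : ∀ n : ℕ, Presheaf.IsLocallySurjective JD
      (((coskAdj n).unit.app (K ⋙ FY)).app (op ⦋n + 1⦌)))
    {T : D} (hT : IsTerminal T)
    (I' : Dᵒᵖ ⥤ AddCommGrpCat.{u}) (Q : Sheaf JD AddCommGrpCat.{u}) (b : I' ⟶ Q.obj)
    (hb : Function.Surjective (b.app (op T))) :
    Epi (HomologicalComplex.homologyMap ((FormalCoproduct.cochainComplexFunctor K).map b) 0) := by
  have hcyc : Epi (HomologicalComplex.cyclesMap
      ((FormalCoproduct.cochainComplexFunctor K).map b) 0) := by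
    rw [AddCommGrpCat.epi_iff_surjective]
    intro w
    have hz : ((FormalCoproduct.cochainComplexFunctor K).obj Q.obj).d 0 1
        (((FormalCoproduct.cochainComplexFunctor K).obj Q.obj).iCycles 0 w) = 0 :=
      ConcreteCategory.congr_hom
        (((FormalCoproduct.cochainComplexFunctor K).obj Q.obj).iCycles_d 0 1) w
    obtain ⟨s, hs⟩ := cech_zero_cocycle JD K Q h0 hn hT
      (((FormalCoproduct.cochainComplexFunctor K).obj Q.obj).iCycles 0 w) hz
    obtain ⟨r, hr⟩ := hb s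
    obtain ⟨y, hy⟩ := abPi_mk
      (f := fun i : (K.obj (op ⦋0⦌)).I => I'.obj (op ((K.obj (op ⦋0⦌)).obj i)))
      (fun i => I'.map (hT.from ((K.obj (op ⦋0⦌)).obj i)).op r)
    have hdy : ((FormalCoproduct.cochainComplexFunctor K).obj I').d 0 1 y = 0 :=
      cech_d0_aug K I' hT r y hy
    have hex : (ShortComplex.mk (((FormalCoproduct.cochainComplexFunctor K).obj I').iCycles 0)
        (((FormalCoproduct.cochainComplexFunctor K).obj I').d 0 1)
        (((FormalCoproduct.cochainComplexFunctor K).obj I').iCycles_d 0 1)).Exact :=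
      ShortComplex.exact_of_f_is_kernel _
        (((FormalCoproduct.cochainComplexFunctor K).obj I').cyclesIsKernel 0 1 (by simp))
    obtain ⟨y', hy'⟩ := (ShortComplex.ab_exact_iff _).1 hex y hdy
    refine ⟨y', ?_⟩
    have hinj : Function.Injective
        (((FormalCoproduct.cochainComplexFunctor K).obj Q.obj).iCycles 0) :=
      (AddCommGrpCat.mono_iff_injective _).1 inferInstance
    apply hinj
    have e1 : ((FormalCoproduct.cochainComplexFunctor K).obj Q.obj).iCycles 0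
        (HomologicalComplex.cyclesMap ((FormalCoproduct.cochainComplexFunctor K).map b) 0 y') =
        ((FormalCoproduct.cochainComplexFunctor K).map b).f 0
          (((FormalCoproduct.cochainComplexFunctor K).obj I').iCycles 0 y') :=
      ConcreteCategory.congr_hom
        (HomologicalComplex.cyclesMap_i ((FormalCoproduct.cochainComplexFunctor K).map b) 0) y'
    refine e1.trans ?_
    have hy'' : ((FormalCoproduct.cochainComplexFunctor K).obj I').iCycles 0 y' = y := hy'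
    rw [hy'']
    refine abPi_ext
      (f := fun i : (K.obj (op ⦋0⦌)).I => Q.obj.obj (op ((K.obj (op ⦋0⦌)).obj i)))
      _ _ (fun i => ?_)
    have e2 : Pi.π (fun i : (K.obj (op ⦋0⦌)).I => Q.obj.obj (op ((K.obj (op ⦋0⦌)).obj i))) i
        (((FormalCoproduct.cochainComplexFunctor K).map b).f 0 y) =
        b.app (op ((K.obj (op ⦋0⦌)).obj i))
          (Pi.π (fun i : (K.obj (op ⦋0⦌)).I => I'.obj (op ((K.obj (op ⦋0⦌)).obj i))) i y) :=
      abPi_map_π (fun i : (K.obj (op ⦋0⦌)).I => b.app (op ((K.obj (op ⦋0⦌)).obj i))) i y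
    refine e2.trans ?_
    rw [hy i]
    have e3 := NatTrans.naturality_apply b (hT.from ((K.obj (op ⦋0⦌)).obj i)).op r
    rw [e3, hr]
    exact (hs i).symm
  haveI := hcyc
  exact epi_of_epi_fac
    (HomologicalComplex.homologyπ_naturality ((FormalCoproduct.cochainComplexFunctor K).map b) 0)

end Site

end Groth.Agent.Lib.Helper6.HyperQI
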