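import Mathlib.AlgebraicTopology.SimplicialObject.Coskeletal
import Mathlib.CategoryTheory.Functor.KanExtension.Pointwise
import Mathlib.CategoryTheory.Functor.KanExtension.Preserves

/-!
# General facts on coskeleta: compatibility with functors preserving Kan extensions,
`cosk n` is `n`-coskeletal, `n`-coskeletal implies `(n+1)`-coskeletal.
-/

set_option autoImplicit false
set_option linter.unusedSectionVars false
set_option linter.unusedVariables false
set_option linter.unusedSimpArgs false
set_option linter.style.haveILetI false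

noncomputable section

namespace Groth.Agent.Lib.Helper6.HyperQI

open CategoryTheory Limits SimplexCategory Simplicial Opposite SimplicialObject

section Counit

variable {E : Type*} [Category E] (n : ℕ)
  [∀ F : (SimplexCategory.Truncated n)ᵒᵖ ⥤ E, (Truncated.inclusion n).op.HasRightKanExtension F]

/-- The counit of the coskeleton adjunction, with a convenient type. -/
def coskε (X : SimplicialObject E) :
    (Truncated.inclusion n).op ⋙ (cosk n).obj X ⟶ (Truncated.inclusion n).op ⋙ X :=
  (coskAdj n).counit.app ((truncation n).obj X)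

instance coskε_isRKE (X : SimplicialObject E) :
    ((cosk n).obj X).IsRightKanExtension (coskε n X) :=
  inferInstanceAs (((cosk n).obj X).IsRightKanExtension
    ((coskAdj n).counit.app ((truncation n).obj X)))

lemma unit_coskε (X : SimplicialObject E) :
    Functor.whiskerLeft (Truncated.inclusion n).op ((coskAdj n).unit.app X) ≫ coskε n X = 𝟙 _ :=
  (coskAdj n).left_triangle_components X

end Counit

section Comp

variable {E E' : Type*} [Category E] [Category E'] (G : E ⥤ E') (n : ℕ)
  [∀ F : (SimplexCategory.Truncated n)ᵒᵖ ⥤ E, (Truncated.inclusion n).op.HasRightKanExtension F]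
  [∀ F : (SimplexCategory.Truncated n)ᵒᵖ ⥤ E',
    (Truncated.inclusion n).op.HasRightKanExtension F]
  (K : SimplicialObject E)
  [hG : G.PreservesRightKanExtension ((Truncated.inclusion n).op ⋙ K) (Truncated.inclusion n).op]

/-- The whiskered counit. -/
def coskCompα : (Truncated.inclusion n).op ⋙ ((cosk n).obj K ⋙ G) ⟶
    (Truncated.inclusion n).op ⋙ (K ⋙ G) :=
  Functor.whiskerRight (coskε n K) G

instance coskCompα_isRKE : ((cosk n).obj K ⋙ G).IsRightKanExtension (coskCompα G n K) := by
  have h := Functor.PreservesRightKanExtension.preserves (G := G) ((cosk n).obj K) (coskε n K)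
  have e : (Functor.associator (Truncated.inclusion n).op ((cosk n).obj K) G).inv ≫
      Functor.whiskerRight (coskε n K) G = coskCompα G n K := by
    ext
    simp [coskCompα]
  rw [e] at h
  exact h

/-- `G` commutes with the `n`-coskeleton when it preserves the relevant right Kan extension. -/
def coskCompIso : (cosk n).obj K ⋙ G ≅ (cosk n).obj (K ⋙ G) :=
  Functor.rightKanExtensionUnique ((cosk n).obj K ⋙ G) (coskCompα G n K)
    ((cosk n).obj (K ⋙ G)) (coskε n (K ⋙ G))

lemma coskCompIso_hom_fac :
    Functor.whiskerLeft (Truncated.inclusion n).op (coskCompIso G n K).hom ≫ coskε n (K ⋙ G) =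
      coskCompα G n K := by
  simp [coskCompIso]

lemma coskCompIso_unit :
    Functor.whiskerRight ((coskAdj n).unit.app K) G ≫ (coskCompIso G n K).hom =
      (coskAdj n).unit.app (K ⋙ G) := by
  refine Functor.hom_ext_of_isRightKanExtension ((cosk n).obj (K ⋙ G)) (coskε n (K ⋙ G)) _ _ ?_
  rw [unit_coskε, Functor.whiskerLeft_comp, Category.assoc, coskCompIso_hom_fac]
  ext a
  have h := congr_app (unit_coskε n K) a
  simp only [NatTrans.comp_app, Functor.whiskerLeft_app, NatTrans.id_app] at h
  simp only [coskCompα, NatTrans.comp_app, Functor.whiskerLeft_app, Functor.whiskerRight_app,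
    NatTrans.id_app]
  rw [← G.map_comp, h]
  exact G.map_id _

end Comp

section General

variable {H : Type*} [Category H] (n : ℕ)
  [∀ F : (SimplexCategory.Truncated n)ᵒᵖ ⥤ H, (Truncated.inclusion n).op.HasRightKanExtension F]
  [∀ F : (SimplexCategory.Truncated n)ᵒᵖ ⥤ H,
    (Truncated.inclusion n).op.HasPointwiseRightKanExtension F]
  (X : SimplicialObject H)

instance coskObj_isCoskeletal : ((cosk n).obj X).IsCoskeletal n := by
  rw [isCoskeletal_iff_isIso]
  have h := (coskAdj n).right_triangle_components ((truncation n).obj X)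
  haveI : IsIso ((Truncated.cosk n).map ((coskAdj n).counit.app ((truncation n).obj X))) :=
    inferInstance
  have e := IsIso.eq_inv_of_inv_hom_id h
  show IsIso ((coskAdj n).unit.app ((Truncated.cosk n).obj ((truncation n).obj X)))
  rw [e]
  infer_instance

lemma isIso_unit_app (Δ : SimplexCategoryᵒᵖ) (hΔ : Δ.unop.len ≤ n) :
    IsIso (((coskAdj n).unit.app X).app Δ) := by
  have h := (coskAdj n).left_triangle_components X
  have h2 := congr_app h (op ⟨Δ.unop, hΔ⟩)
  have hc : IsIso ((coskAdj n).counit.app ((truncation n).obj X)) := inferInstance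
  haveI hc' : IsIso (((coskAdj n).counit.app ((truncation n).obj X)).app (op ⟨Δ.unop, hΔ⟩)) :=
    @NatIso.isIso_app_of_isIso _ _ _ _ _ _ ((coskAdj n).counit.app ((truncation n).obj X)) hc _
  have h3 : ((coskAdj n).unit.app X).app Δ ≫
      ((coskAdj n).counit.app ((truncation n).obj X)).app (op ⟨Δ.unop, hΔ⟩) = 𝟙 _ := h2
  have e := @IsIso.eq_inv_of_inv_hom_id _ _ _ _ _ hc' _ h3
  rw [e]
  exact @IsIso.inv_isIso _ _ _ _ _ hc'

end General

section Succ

variable {H : Type*} [Category H] (X : SimplicialObject H) (n : ℕ)

lemma isCoskeletal_succ [X.IsCoskeletal n]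
    [(Truncated.inclusion n).op.HasPointwiseRightKanExtension
      ((Truncated.inclusion n).op ⋙ X)] :
    X.IsCoskeletal (n + 1) := by
  have hpt := Functor.isPointwiseRightKanExtensionOfIsRightKanExtension X
    (𝟙 ((Truncated.inclusion n).op ⋙ X))
  let ι : (SimplexCategory.Truncated n)ᵒᵖ ⥤ (SimplexCategory.Truncated (n + 1))ᵒᵖ :=
    (Truncated.incl n (n + 1)).op
  have ex : ∀ (Y : SimplicialObject H)
      (β : (Truncated.inclusion (n + 1)).op ⋙ Y ⟶ (Truncated.inclusion (n + 1)).op ⋙ X),
      ∃ γ : Y ⟶ X, Functor.whiskerLeft (Truncated.inclusion (n + 1)).op γ = β ∧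
        ∀ γ' : Y ⟶ X, Functor.whiskerLeft (Truncated.inclusion (n + 1)).op γ' = β → γ' = γ := by
    intro Y β
    let α : (Truncated.inclusion n).op ⋙ Y ⟶ (Truncated.inclusion n).op ⋙ X :=
      { app := fun a => β.app (ι.obj a)
        naturality := fun a a' f => β.naturality (ι.map f) }
    let γ := X.liftOfIsRightKanExtension (𝟙 ((Truncated.inclusion n).op ⋙ X)) Y α
    have hγ : ∀ a, γ.app ((Truncated.inclusion n).op.obj a) = β.app (ι.obj a) := fun a => by
      have := X.liftOfIsRightKanExtension_fac_app (𝟙 ((Truncated.inclusion n).op ⋙ X)) Y α a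
      simpa using this
    refine ⟨γ, ?_, ?_⟩
    · ext b
      refine (hpt _).hom_ext (fun j => ?_)
      have hπ : ((Functor.RightExtension.mk X (𝟙 ((Truncated.inclusion n).op ⋙ X))).coneAt
          ((Truncated.inclusion (n + 1)).op.obj b)).π.app j = X.map j.hom := by
        rw [Functor.RightExtension.coneAt_π_app]
        exact Category.comp_id _
      rw [hπ]
      let jh : (Truncated.inclusion (n + 1)).op.obj b ⟶
        (Truncated.inclusion (n + 1)).op.obj (ι.obj j.right) := j.hom
      let g' : b ⟶ ι.obj j.right := (Truncated.inclusion (n + 1)).op.preimage jh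
      have hg' : (Truncated.inclusion (n + 1)).op.map g' = jh :=
        (Truncated.inclusion (n + 1)).op.map_preimage jh
      have e1 : γ.app ((Truncated.inclusion (n + 1)).op.obj b) ≫ X.map j.hom =
          Y.map j.hom ≫ β.app (ι.obj j.right) := by
        rw [← hγ j.right]
        exact (γ.naturality j.hom).symm
      have e2 : β.app b ≫ X.map j.hom = Y.map j.hom ≫ β.app (ι.obj j.right) := by
        have := β.naturality g'
        simp only [Functor.comp_map, hg'] at this
        exact this.symm
      exact e1.trans e2.symm
    · intro γ' hγ'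
      refine X.hom_ext_of_isRightKanExtension (𝟙 ((Truncated.inclusion n).op ⋙ X)) _ _ ?_
      ext a
      simp only [NatTrans.comp_app, Functor.whiskerLeft_app, NatTrans.id_app, Category.comp_id]
      rw [hγ a]
      exact congr_app hγ' (ι.obj a)
  choose lift hfac huniq using ex
  constructor
  exact ⟨⟨IsTerminal.ofUniqueHom
    (fun E => CostructuredArrow.homMk (lift E.left E.hom) (by
      show Functor.whiskerLeft _ (lift E.left E.hom) ≫ 𝟙 _ = E.hom
      rw [Category.comp_id]
      exact hfac _ _))
    (fun E m => by
      apply CostructuredArrow.hom_ext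
      show m.left = lift E.left E.hom
      apply huniq
      have := CostructuredArrow.w m
      exact (Category.comp_id _).symm.trans this)⟩⟩

end Succ

end Groth.Agent.Lib.Helper6.HyperQI
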