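import Groth.Agent.Lib.Helper6.HyperQI.PWKan
import Mathlib.CategoryTheory.Limits.FormalCoproducts.Basic
import Mathlib.CategoryTheory.Limits.Yoneda
import Mathlib.CategoryTheory.Limits.Types.Coproducts
import Mathlib.CategoryTheory.Limits.Preserves.Shapes.Products
import Mathlib.CategoryTheory.Limits.FunctorCategory.Basic
import Mathlib.AlgebraicTopology.SimplicialObject.Coskeletal

/-!
# The Yoneda functor on formal coproducts: elements, preservation of limits and Kan extensions
-/

set_option autoImplicit false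
set_option linter.unusedSectionVars false
set_option linter.unusedVariables false
set_option linter.unusedSimpArgs false
set_option linter.style.haveILetI false

noncomputable section

namespace Groth.Agent.Lib.Helper6.HyperQI

open CategoryTheory Limits SimplexCategory Simplicial Opposite SimplicialObject

universe u

variable {D : Type u} [SmallCategory D]

/-- The Yoneda functor on formal coproducts. -/
abbrev FY : FormalCoproduct.{u} D ⥤ Dᵒᵖ ⥤ Type u := FormalCoproduct.yoneda

/-- The family of representable presheaves attached to a formal coproduct. -/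
abbrev yfam (X : FormalCoproduct.{u} D) : X.I → (Dᵒᵖ ⥤ Type u) := fun i => yoneda.obj (X.obj i)

/-- The section of `FY.obj X` over `V` given by an index `i` and a map `V ⟶ X.obj i`. -/
def sig (X : FormalCoproduct.{u} D) (V : D) (i : X.I) (s : V ⟶ X.obj i) :
    (FY.obj X).obj (op V) :=
  (Sigma.ι (yfam X) i).app (op V) s

/-- The cofan of sections over `V` is a colimit. -/
def evCofanIsColimit (X : FormalCoproduct.{u} D) (V : D) :
    IsColimit (Cofan.mk ((FY.obj X).obj (op V))
      (fun i => (Sigma.ι (yfam X) i).app (op V)) : Cofan (fun i => (yfam X i).obj (op V))) :=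
  isColimitOfHasCoproductOfPreservesColimit ((evaluation Dᵒᵖ (Type u)).obj (op V)) (yfam X)

lemma sig_surj (X : FormalCoproduct.{u} D) (V : D) (x : (FY.obj X).obj (op V)) :
    ∃ (i : X.I) (s : V ⟶ X.obj i), sig X V i s = x :=
  Cofan.inj_jointly_surjective_of_isColimit (evCofanIsColimit X V) x

lemma sig_inj (X : FormalCoproduct.{u} D) (V : D) {i j : X.I} (s : V ⟶ X.obj i)
    (t : V ⟶ X.obj j) (h : sig X V i s = sig X V j t) :
    (⟨i, s⟩ : Σ i : X.I, V ⟶ X.obj i) = ⟨j, t⟩ := by
  obtain ⟨rfl, h'⟩ := (Cofan.inj_apply_eq_iff_of_isColimit (evCofanIsColimit X V) s t).1 h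
  subst h'
  rfl

lemma map_sig (X : FormalCoproduct.{u} D) {V W : D} (g : W ⟶ V) (i : X.I) (s : V ⟶ X.obj i) :
    (FY.obj X).map g.op (sig X V i s) = sig X W i (g ≫ s) :=
  (NatTrans.naturality_apply (Sigma.ι (yfam X) i) g.op s).symm

lemma FY_map_sig {X Y : FormalCoproduct.{u} D} (f : X ⟶ Y) (V : D) (i : X.I)
    (s : V ⟶ X.obj i) :
    (FY.map f).app (op V) (sig X V i s) = sig Y V (f.f i) (s ≫ f.φ i) := by
  have h : Sigma.ι (yfam X) i ≫ FY.map f = yoneda.map (f.φ i) ≫ Sigma.ι (yfam Y) (f.f i) :=
    Sigma.ι_desc _ _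
  exact types_congr_hom (congr_app h (op V)) s

/-- The comparison `Hom(incl V, -) ⟶ FY(-)(V)`. -/
def tauV (V : D) : coyoneda.obj (op ((FormalCoproduct.incl.{u} D).obj V)) ⟶
    FY ⋙ (evaluation Dᵒᵖ (Type u)).obj (op V) where
  app X := ↾(fun f => sig X V (f.f PUnit.unit) (f.φ PUnit.unit))
  naturality X Y g := by
    ext f
    exact (FY_map_sig g V _ _).symm

lemma tauV_bijective (V : D) (X : FormalCoproduct.{u} D) :
    Function.Bijective ((tauV V).app X) := by
  constructor
  · intro f g h
    have h' := sig_inj X V _ _ h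
    exact (FormalCoproduct.inclHomEquiv V X).injective h'
  · intro x
    obtain ⟨i, s, rfl⟩ := sig_surj X V x
    exact ⟨FormalCoproduct.Hom.fromIncl i s, rfl⟩

instance tauV_isIso (V : D) : IsIso (tauV V) := by
  haveI : ∀ X, IsIso ((tauV V).app X) := fun X => (isIso_iff_bijective _).2 (tauV_bijective V X)
  exact NatIso.isIso_of_isIso_app _

instance FY_preservesLimit {Js : Type*} [Category Js] (G : Js ⥤ FormalCoproduct.{u} D) :
    PreservesLimit G (FormalCoproduct.yoneda : FormalCoproduct.{u} D ⥤ Dᵒᵖ ⥤ Type u) :=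
  preservesLimit_of_evaluation _ G (fun V =>
    preservesLimit_of_natIso G (asIso (tauV V.unop)))

instance FY_preservesRKE (n : ℕ)
    (F : (SimplexCategory.Truncated n)ᵒᵖ ⥤ FormalCoproduct.{u} D)
    [(Truncated.inclusion n).op.HasRightKanExtension F] :
    (FormalCoproduct.yoneda : FormalCoproduct.{u} D ⥤ Dᵒᵖ ⥤ Type u).PreservesRightKanExtension F
      (Truncated.inclusion n).op := by
  haveI h0 : HasCoproducts.{0} (FormalCoproduct.{u} D) :=
    has_smallest_coproducts_of_hasCoproducts
  haveI hc : ∀ (c d : SimplexCategoryᵒᵖ),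
      HasCoproductsOfShape (c ⟶ d) (FormalCoproduct.{u} D) := fun c d => h0 (c ⟶ d)
  haveI : (Truncated.inclusion n).op.HasPointwiseRightKanExtension F :=
    hasPointwiseRightKanExtension_of_coproducts (Truncated.inclusion n).op F
  infer_instance

end Groth.Agent.Lib.Helper6.HyperQI
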