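import Groth.Prelude.Def_Hyper
import Groth.Agent.Lib.Helper6.HyperQI.FCYoneda

/-!
# Coverings of formal coproducts give locally surjective maps of presheaves
-/

set_option autoImplicit false
set_option linter.unusedSectionVars false
set_option linter.unusedVariables false
set_option linter.unusedSimpArgs false
set_option linter.style.haveILetI false

noncomputable section

namespace Groth.Agent.Lib.Helper6.HyperQI

open CategoryTheory Limits SimplexCategory Simplicial Opposite SimplicialObject

universe u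

section SR

variable {D : Type u} [SmallCategory D] (JD : GrothendieckTopology D)

lemma isLocallySurjective_of_isSRCovering {K L : FormalCoproduct.{u} D} (f : K ⟶ L)
    (hf : Hyper.IsSRCovering JD f) : Presheaf.IsLocallySurjective JD (FY.map f) where
  imageSieve_mem {U} y := by
    obtain ⟨j, s, rfl⟩ := sig_surj L U y
    refine JD.superset_covering ?_ (JD.pullback_stable s (hf j))
    intro V g hg
    obtain ⟨W, a, b, ⟨⟨i, hi⟩⟩, hab⟩ := hg
    subst hi
    simp only [eqToHom_refl, Category.comp_id] at hab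
    refine ⟨sig K V i a, ?_⟩
    rw [FY_map_sig, map_sig, hab]

/-- The sieve of maps `V ⟶ U` such that `Q(V)` is nonempty. -/
def nonemptySieve (Q : Dᵒᵖ ⥤ Type u) (U : D) : Sieve U where
  arrows V _ := Nonempty (Q.obj (op V))
  downward_closed := by
    rintro V W g ⟨x⟩ h
    exact ⟨Q.map h.op x⟩

/-- A presheaf is locally nonempty. -/
def LocNonempty (Q : Dᵒᵖ ⥤ Type u) : Prop := ∀ U : D, nonemptySieve Q U ∈ JD U

variable {JD}

lemma LocNonempty.of_hom {Q Q' : Dᵒᵖ ⥤ Type u} (φ : Q ⟶ Q') (h : LocNonempty JD Q) :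
    LocNonempty JD Q' := fun U => by
  refine JD.superset_covering ?_ (h U)
  intro V g hg
  obtain ⟨x⟩ := hg
  exact ⟨φ.app _ x⟩

lemma isLocallySurjective_of_locNonempty {Q T : Dᵒᵖ ⥤ Type u} (φ : Q ⟶ T)
    (hT : ∀ U, Subsingleton (T.obj U)) (h : LocNonempty JD Q) :
    Presheaf.IsLocallySurjective JD φ where
  imageSieve_mem {U} t := by
    refine JD.superset_covering ?_ (h U)
    intro V g hg
    obtain ⟨x⟩ := hg
    exact ⟨x, (hT _).elim _ _⟩

lemma locNonempty_of_isLocallySurjective {Q T : Dᵒᵖ ⥤ Type u} (φ : Q ⟶ T)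
    (hT : ∀ U, Nonempty (T.obj U)) [Presheaf.IsLocallySurjective JD φ] :
    LocNonempty JD Q := fun U => by
  obtain ⟨t⟩ := hT (op U)
  refine JD.superset_covering ?_ (Presheaf.imageSieve_mem JD φ t)
  intro V g hg
  obtain ⟨x, _⟩ := hg
  exact ⟨x⟩

lemma isLocallySurjective_of_comp_injective {Q R S : Dᵒᵖ ⥤ Type u} (f : Q ⟶ R) (m : R ⟶ S)
    (hm : ∀ U, Function.Injective (m.app U)) [Presheaf.IsLocallySurjective JD (f ≫ m)] :
    Presheaf.IsLocallySurjective JD f where
  imageSieve_mem {U} y := by
    refine JD.superset_covering ?_ (Presheaf.imageSieve_mem JD (f ≫ m) (m.app _ y))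
    intro V g hg
    obtain ⟨x, hx⟩ := hg
    refine ⟨x, hm _ ?_⟩
    rw [NatTrans.naturality_apply]
    exact hx

end SR

section Over

variable {C : Type u} [SmallCategory C] (J : GrothendieckTopology C) (X : C)

lemma locNonempty_of_cover (K0 : FormalCoproduct.{u} (Over X))
    (h : Sieve.ofArrows (fun i => (K0.obj i).left) (fun i => (K0.obj i).hom) ∈ J X) :
    LocNonempty (J.over X) (FY.obj K0) := by
  intro U
  rw [GrothendieckTopology.mem_over_iff]
  refine J.superset_covering ?_ (J.pullback_stable U.hom h)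
  intro Z g hg
  rw [Sieve.overEquiv_iff]
  obtain ⟨W, a, b, ⟨i⟩, hab⟩ := hg
  exact ⟨sig K0 (Over.mk (g ≫ U.hom)) i (Over.homMk a hab)⟩

end Over

end Groth.Agent.Lib.Helper6.HyperQI
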