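import Groth.Agent.Lib.Helper6.HyperQI.Main
import Groth.Agent.Lib.Helper6.HyperQI.CoskGen
import Groth.Agent.Lib.Helper6.HyperQI.SRCov
import Mathlib.Algebra.Homology.AlternatingConst

/-!
# The coskeleton tower: homology of the free chain complex of a presheaf-level hypercovering
-/

set_option autoImplicit false
set_option linter.unusedSectionVars false
set_option linter.unusedVariables false
set_option linter.unusedSimpArgs false
set_option linter.style.haveILetI false
set_option maxHeartbeats 800000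

noncomputable section

namespace Groth.Agent.Lib.Helper6.HyperQI

open CategoryTheory Limits SimplexCategory Simplicial Opposite SimplicialObject AlgebraicTopology

universe u

section T5

lemma isIso_homologyMap_of_isIso_f {A : Type*} [Category A] [Abelian A]
    {C₁ C₂ : ChainComplex A ℕ} (φ : C₁ ⟶ C₂) (i : ℕ)
    (h : ∀ j, j ≤ i + 1 → IsIso (φ.f j)) :
    IsIso (HomologicalComplex.homologyMap φ i) := by
  haveI h1 : IsIso
      (((HomologicalComplex.shortComplexFunctor A (ComplexShape.down ℕ) i).map φ).τ₁) :=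
    h ((ComplexShape.down ℕ).prev i) (by rw [ChainComplex.prev])
  haveI h2 : IsIso
      (((HomologicalComplex.shortComplexFunctor A (ComplexShape.down ℕ) i).map φ).τ₂) :=
    h i (by omega)
  haveI h3 : IsIso
      (((HomologicalComplex.shortComplexFunctor A (ComplexShape.down ℕ) i).map φ).τ₃) :=
    h ((ComplexShape.down ℕ).next i) (by
      cases i with
      | zero => rw [ChainComplex.next_nat_zero]; omega
      | succ k => rw [ChainComplex.next_nat_succ]; omega)
  haveI := ShortComplex.isIso_of_isIso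
    ((HomologicalComplex.shortComplexFunctor A (ComplexShape.down ℕ) i).map φ)
  show IsIso (ShortComplex.homologyMap
    ((HomologicalComplex.shortComplexFunctor A (ComplexShape.down ℕ) i).map φ))
  infer_instance

end T5

section Psh

variable {D : Type u} [SmallCategory D] (JD : GrothendieckTopology D)

/-- `f` induces an isomorphism on `H_i` of the free chain complexes of abelian sheaves. -/
def QI {Q Q' : SimplicialObject (Dᵒᵖ ⥤ Type u)} (f : Q ⟶ Q') (i : ℕ) : Prop :=
  IsIso (HomologicalComplex.homologyMap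
    ((alternatingFaceMapComplex (Sheaf JD AddCommGrpCat.{u})).map
      (Functor.whiskerRight f (Fr D ⋙ presheafToSheaf JD AddCommGrpCat.{u}))) i)

lemma QI_comp {Q Q' Q'' : SimplicialObject (Dᵒᵖ ⥤ Type u)} (f : Q ⟶ Q') (g : Q' ⟶ Q'') (i : ℕ)
    (hf : QI JD f i) (hg : QI JD g i) : QI JD (f ≫ g) i := by
  unfold QI at *
  rw [Functor.whiskerRight_comp, Functor.map_comp, HomologicalComplex.homologyMap_comp]
  haveI := hf
  haveI := hg
  infer_instance

variable (P : SimplicialObject (Dᵒᵖ ⥤ Type u))

lemma isIso_whiskerLeft_unit (n : ℕ) :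
    IsIso (Functor.whiskerLeft (Truncated.inclusion n).op ((coskAdj (n + 1)).unit.app P)) := by
  haveI : ∀ a, IsIso ((Functor.whiskerLeft (Truncated.inclusion n).op
      ((coskAdj (n + 1)).unit.app P)).app a) := fun a =>
    isIso_unit_app (n + 1) P ((Truncated.inclusion n).op.obj a)
      (Nat.le_succ_of_le a.unop.property)
  exact NatIso.isIso_of_isIso_app _

instance isIso_truncation_unit (n : ℕ) :
    IsIso ((truncation n).map ((coskAdj (n + 1)).unit.app P)) :=
  isIso_whiskerLeft_unit P n

/-- The transition map of the coskeleton tower. -/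
def rmap (n : ℕ) : (cosk (n + 1)).obj P ⟶ (cosk n).obj P :=
  (coskAdj n).homEquiv ((cosk (n + 1)).obj P) ((truncation n).obj P)
    (inv ((truncation n).map ((coskAdj (n + 1)).unit.app P)))

lemma unit_rmap (n : ℕ) :
    (coskAdj (n + 1)).unit.app P ≫ rmap P n = (coskAdj n).unit.app P := by
  have h := (coskAdj n).homEquiv_naturality_left ((coskAdj (n + 1)).unit.app P)
    (inv ((truncation n).map ((coskAdj (n + 1)).unit.app P)))
  rw [IsIso.hom_inv_id] at h
  exact h.symm.trans ((coskAdj n).homEquiv_id P)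

lemma unit_QI (n i : ℕ) (hi : i + 1 ≤ n) : QI JD ((coskAdj n).unit.app P) i := by
  unfold QI
  apply isIso_homologyMap_of_isIso_f
  intro j hj
  haveI := isIso_unit_app n P (op ⦋j⦌) (by show j ≤ n; omega)
  show IsIso ((Fr D ⋙ presheafToSheaf JD AddCommGrpCat.{u}).map
    (((coskAdj n).unit.app P).app (op ⦋j⦌)))
  infer_instance

lemma rmap_QI (n : ℕ)
    (hP : Presheaf.IsLocallySurjective JD (((coskAdj n).unit.app P).app (op ⦋n + 1⦌))) (i : ℕ) :
    QI JD (rmap P n) i := by
  haveI : ((cosk n).obj P).IsCoskeletal (n + 1) := isCoskeletal_succ _ n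
  refine main JD (rmap P n) (n + 1) ?_ ?_ i
  · intro j hj
    have h := congr_app (unit_rmap P n) (op ⦋j⦌)
    rw [NatTrans.comp_app] at h
    haveI := isIso_unit_app (n + 1) P (op ⦋j⦌) (by show j ≤ n + 1; omega)
    haveI := isIso_unit_app n P (op ⦋j⦌) (by show j ≤ n; omega)
    exact IsIso.of_isIso_fac_left h
  · have h := congr_app (unit_rmap P n) (op ⦋n + 1⦌)
    rw [NatTrans.comp_app] at h
    haveI := hP
    exact Presheaf.isLocallySurjective_of_isLocallySurjective_fac JD h

/-- The constant simplicial presheaf with value a point. -/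
def ptS : SimplicialObject (Dᵒᵖ ⥤ Type u) :=
  (Functor.const _).obj ((Functor.const _).obj PUnit.{u + 1})

/-- The unique map to the point. -/
def toPt (Q : SimplicialObject (Dᵒᵖ ⥤ Type u)) : Q ⟶ ptS (D := D) where
  app Δ := { app := fun U => ↾(fun _ => PUnit.unit) }

instance ptS_isCoskeletal (n : ℕ) : (ptS (D := D)).IsCoskeletal n := by
  rw [isCoskeletal_iff_isIso]
  refine ⟨toPt _, ?_, ?_⟩
  · ext Δ U x
    rfl
  · apply ((coskAdj n).homEquiv ((cosk n).obj (ptS (D := D)))
      ((truncation n).obj (ptS (D := D)))).symm.injective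
    ext a U x
    rfl

lemma toPt_QI (h0 : LocNonempty JD (P.obj (op ⦋0⦌))) (i : ℕ) :
    QI JD (toPt ((cosk 0).obj P)) i := by
  refine main JD (toPt ((cosk 0).obj P)) 0 (fun j hj => absurd hj (Nat.not_lt_zero j)) ?_ i
  refine isLocallySurjective_of_locNonempty _ (fun U => ?_)
    (h0.of_hom (((coskAdj 0).unit.app P).app (op ⦋0⦌)))
  show Subsingleton PUnit
  infer_instance

lemma exists_toPt_QI (h0 : LocNonempty JD (P.obj (op ⦋0⦌)))
    (hn : ∀ n : ℕ,
      Presheaf.IsLocallySurjective JD (((coskAdj n).unit.app P).app (op ⦋n + 1⦌))) (n : ℕ) :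
    ∃ t : (cosk n).obj P ⟶ ptS (D := D), ∀ i, QI JD t i := by
  induction n with
  | zero => exact ⟨toPt _, fun i => toPt_QI JD P h0 i⟩
  | succ n ih =>
    obtain ⟨t, ht⟩ := ih
    exact ⟨rmap P n ≫ t, fun i => QI_comp JD _ _ i (rmap_QI JD P n (hn n) i) (ht i)⟩

lemma exists_QI (h0 : LocNonempty JD (P.obj (op ⦋0⦌)))
    (hn : ∀ n : ℕ,
      Presheaf.IsLocallySurjective JD (((coskAdj n).unit.app P).app (op ⦋n + 1⦌))) (i : ℕ) :
    ∃ t : P ⟶ ptS (D := D), QI JD t i := by
  obtain ⟨t, ht⟩ := exists_toPt_QI JD P h0 hn (i + 1)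
  exact ⟨(coskAdj (i + 1)).unit.app P ≫ t,
    QI_comp JD _ _ i (unit_QI JD P (i + 1) i le_rfl) (ht i)⟩

/-- The value of the free-sheaf functor on the point. -/
abbrev ptA : Sheaf JD AddCommGrpCat.{u} :=
  (Fr D ⋙ presheafToSheaf JD AddCommGrpCat.{u}).obj ((Functor.const Dᵒᵖ).obj PUnit.{u + 1})

/-- The free chain complex of the point is the alternating constant complex. -/
def ptComplexIso :
    (alternatingFaceMapComplex (Sheaf JD AddCommGrpCat.{u})).obj
      (ptS (D := D) ⋙ (Fr D ⋙ presheafToSheaf JD AddCommGrpCat.{u})) ≅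
    ChainComplex.alternatingConst.obj (ptA JD) :=
  (alternatingFaceMapComplex (Sheaf JD AddCommGrpCat.{u})).mapIso
    (Functor.constComp _ _ (Fr D ⋙ presheafToSheaf JD AddCommGrpCat.{u})) ≪≫
  (alternatingFaceMapComplexConst (C := Sheaf JD AddCommGrpCat.{u})).app (ptA JD)

/-- The sheaf `ptA` is the sheafification of the constant presheaf `ℤ`. -/
def ptAIso : ptA JD ≅ (presheafToSheaf JD AddCommGrpCat.{u}).obj
    ((Functor.const Dᵒᵖ).obj (AddCommGrpCat.free.{u}.obj PUnit.{u + 1})) :=
  (presheafToSheaf JD AddCommGrpCat.{u}).mapIso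
    (Functor.constComp _ _ AddCommGrpCat.free.{u})

theorem tower_main (h0 : LocNonempty JD (P.obj (op ⦋0⦌)))
    (hn : ∀ n : ℕ,
      Presheaf.IsLocallySurjective JD (((coskAdj n).unit.app P).app (op ⦋n + 1⦌))) :
    (∀ i : ℕ, IsZero (((alternatingFaceMapComplex (Sheaf JD AddCommGrpCat.{u})).obj
      (P ⋙ (Fr D ⋙ presheafToSheaf JD AddCommGrpCat.{u}))).homology (i + 1))) ∧
    Nonempty (((alternatingFaceMapComplex (Sheaf JD AddCommGrpCat.{u})).obj
      (P ⋙ (Fr D ⋙ presheafToSheaf JD AddCommGrpCat.{u}))).homology 0 ≅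
        (presheafToSheaf JD AddCommGrpCat.{u}).obj
          ((Functor.const Dᵒᵖ).obj (AddCommGrpCat.free.{u}.obj PUnit.{u + 1}))) := by
  constructor
  · intro i
    obtain ⟨t, ht⟩ := exists_QI JD P h0 hn (i + 1)
    unfold QI at ht
    haveI := ht
    have hz : IsZero ((ChainComplex.alternatingConst.obj (ptA JD)).homology (i + 1)) :=
      (ChainComplex.alternatingConst_exactAt (ptA JD) (i + 1) (by omega)).isZero_homology
    exact (hz.of_iso (HomologicalComplex.homologyMapIso (ptComplexIso JD) (i + 1))).of_iso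
      (asIso (HomologicalComplex.homologyMap
        ((alternatingFaceMapComplex (Sheaf JD AddCommGrpCat.{u})).map
          (Functor.whiskerRight t (Fr D ⋙ presheafToSheaf JD AddCommGrpCat.{u}))) (i + 1)))
  · obtain ⟨t, ht⟩ := exists_QI JD P h0 hn 0
    unfold QI at ht
    haveI := ht
    exact ⟨asIso (HomologicalComplex.homologyMap
        ((alternatingFaceMapComplex (Sheaf JD AddCommGrpCat.{u})).map
          (Functor.whiskerRight t (Fr D ⋙ presheafToSheaf JD AddCommGrpCat.{u}))) 0) ≪≫
      HomologicalComplex.homologyMapIso (ptComplexIso JD) 0 ≪≫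
      ChainComplex.alternatingConstHomologyZero (ptA JD) ≪≫ ptAIso JD⟩

end Psh

end Groth.Agent.Lib.Helper6.HyperQI
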