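import Groth.Agent.Lib.Helper6.HyperQI.CofaceHom
import Groth.Agent.Lib.Helper6.HyperQI.Tower
import Mathlib.CategoryTheory.Sites.SheafCohomology.Cech
import Mathlib.CategoryTheory.Preadditive.Yoneda.Injective
import Mathlib.CategoryTheory.Abelian.Injective.Basic
import Mathlib.CategoryTheory.Limits.Shapes.ConcreteCategory
import Mathlib.CategoryTheory.ConcreteCategory.EpiMono

/-!
# The Čech complex of a sheaf `I` with respect to `K` as `Hom(ℤ[F(K)]^#, I)`
-/

set_option autoImplicit false
set_option linter.unusedSectionVars false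
set_option linter.unusedVariables false
set_option linter.unusedSimpArgs false
set_option linter.style.haveILetI false
set_option maxHeartbeats 800000

noncomputable section

namespace Groth.Agent.Lib.Helper6.HyperQI

open CategoryTheory Limits SimplexCategory Simplicial Opposite SimplicialObject AlgebraicTopology

universe u

section Site

variable {D : Type u} [SmallCategory D] (JD : GrothendieckTopology D)

/-- Free abelian sheaf functor on presheaves of sets. -/
abbrev Lsh : (Dᵒᵖ ⥤ Type u) ⥤ Sheaf JD AddCommGrpCat.{u} :=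
  Fr D ⋙ presheafToSheaf JD AddCommGrpCat.{u}

/-- The underlying presheaf of sets of an abelian sheaf. -/
abbrev Rsh : Sheaf JD AddCommGrpCat.{u} ⥤ (Dᵒᵖ ⥤ Type u) :=
  sheafToPresheaf JD AddCommGrpCat.{u} ⋙
    (Functor.whiskeringRight Dᵒᵖ AddCommGrpCat.{u} (Type u)).obj (forget AddCommGrpCat.{u})

/-- The free-forgetful adjunction between presheaves of sets and abelian sheaves. -/
def adjT : Lsh JD ⊣ Rsh JD :=
  (AddCommGrpCat.adj.{u}.whiskerRight Dᵒᵖ).comp (sheafificationAdjunction JD AddCommGrpCat.{u})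

/-- The generator attached to a section. -/
def gen (Q : Dᵒᵖ ⥤ Type u) (V : D) (x : Q.obj (op V)) : ((Lsh JD).obj Q).obj.obj (op V) :=
  ((adjT JD).unit.app Q).app (op V) x

lemma gen_nat_obj {Q Q' : Dᵒᵖ ⥤ Type u} (q : Q ⟶ Q') (V : D) (x : Q.obj (op V)) :
    ((Lsh JD).map q).hom.app (op V) (gen JD Q V x) = gen JD Q' V (q.app (op V) x) := by
  have h := (adjT JD).unit.naturality q
  have h2 := types_congr_hom (congr_app h (op V)) x
  exact h2.symm

lemma gen_nat_map (Q : Dᵒᵖ ⥤ Type u) {V W : D} (g : W ⟶ V) (x : Q.obj (op V)) :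
    ((Lsh JD).obj Q).obj.map g.op (gen JD Q V x) = gen JD Q W (Q.map g.op x) :=
  (NatTrans.naturality_apply ((adjT JD).unit.app Q) g.op x).symm

variable (I : Sheaf JD AddCommGrpCat.{u})

lemma homEquiv_app_apply (Q : Dᵒᵖ ⥤ Type u) (φ : (Lsh JD).obj Q ⟶ I) (V : D)
    (x : Q.obj (op V)) :
    ((adjT JD).homEquiv Q I φ).app (op V) x = φ.hom.app (op V) (gen JD Q V x) := by
  rw [Adjunction.homEquiv_unit]
  rfl

/-- Evaluation of a morphism `ℤ[F(X)]^# ⟶ I` at the `i`-th tautological section. -/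
def evHom (X : FormalCoproduct.{u} D) (i : X.I) :
    ((Lsh JD).obj (FY.obj X) ⟶ I) →+ I.obj.obj (op (X.obj i)) where
  toFun φ := φ.hom.app (op (X.obj i)) (gen JD (FY.obj X) (X.obj i) (sig X (X.obj i) i (𝟙 _)))
  map_zero' := rfl
  map_add' _ _ := rfl

lemma evHom_nat {X X' : FormalCoproduct.{u} D} (g : X ⟶ X') (i : X.I)
    (φ : (Lsh JD).obj (FY.obj X') ⟶ I) :
    evHom JD I X i ((Lsh JD).map (FY.map g) ≫ φ) =
      I.obj.map (g.φ i).op (evHom JD I X' (g.f i) φ) := by
  show φ.hom.app _ (((Lsh JD).map (FY.map g)).hom.app _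
    (gen JD (FY.obj X) (X.obj i) (sig X (X.obj i) i (𝟙 _)))) = _
  rw [gen_nat_obj, FY_map_sig]
  show _ = I.obj.map (g.φ i).op (φ.hom.app _
    (gen JD (FY.obj X') _ (sig X' _ (g.f i) (𝟙 _))))
  rw [← NatTrans.naturality_apply φ.hom (g.φ i).op, gen_nat_map, map_sig, Category.id_comp,
    Category.comp_id]

/-- The comparison map `Hom(ℤ[F(X)]^#, I) ⟶ ∏ᵢ I(Xᵢ)`. -/
def PsiApp (X : FormalCoproduct.{u} D) :
    (preadditiveYoneda.obj I).obj (op ((Lsh JD).obj (FY.obj X))) ⟶
      ∏ᶜ fun i : X.I => I.obj.obj (op (X.obj i)) :=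
  Pi.lift (fun i => AddCommGrpCat.ofHom (evHom JD I X i))

lemma PsiApp_π (X : FormalCoproduct.{u} D) (i : X.I) (φ : (Lsh JD).obj (FY.obj X) ⟶ I) :
    Pi.π (fun i : X.I => I.obj.obj (op (X.obj i))) i (PsiApp JD I X φ) = evHom JD I X i φ :=
  ConcreteCategory.congr_hom
    (Pi.lift_π (fun i => AddCommGrpCat.ofHom (evHom JD I X i)) i) φ

lemma evalOp_map_π (P : Dᵒᵖ ⥤ AddCommGrpCat.{u}) {X X' : (FormalCoproduct.{u} D)ᵒᵖ}
    (g : X ⟶ X') (i : X'.unop.I)
    (y : ((FormalCoproduct.evalOp D AddCommGrpCat.{u}).obj P).obj X) :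
    Pi.π (fun i : X'.unop.I => P.obj (op (X'.unop.obj i))) i
      (((FormalCoproduct.evalOp D AddCommGrpCat.{u}).obj P).map g y) =
      P.map (g.unop.φ i).op
        (Pi.π (fun i : X.unop.I => P.obj (op (X.unop.obj i))) (g.unop.f i) y) :=
  ConcreteCategory.congr_hom
    (Pi.lift_π (fun i => Pi.π (fun i : X.unop.I => P.obj (op (X.unop.obj i))) (g.unop.f i) ≫
      P.map (g.unop.φ i).op) i) y

/-- The comparison as a natural transformation. -/
def PsiNat : (FY ⋙ Lsh JD).op ⋙ preadditiveYoneda.obj I ⟶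
    (FormalCoproduct.evalOp D AddCommGrpCat.{u}).obj I.obj where
  app X := PsiApp JD I X.unop
  naturality X X' g := by
    refine Pi.hom_ext _ _ (fun i => ?_)
    ext φ
    show Pi.π (fun i : X'.unop.I => I.obj.obj (op (X'.unop.obj i))) i
        (PsiApp JD I X'.unop ((Lsh JD).map (FY.map g.unop) ≫ φ)) =
      Pi.π (fun i : X'.unop.I => I.obj.obj (op (X'.unop.obj i))) i
        (((FormalCoproduct.evalOp D AddCommGrpCat.{u}).obj I.obj).map g (PsiApp JD I X.unop φ))
    rw [PsiApp_π, evalOp_map_π, PsiApp_π, evHom_nat]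

/-- Evaluation of a morphism of presheaves of sets at the tautological sections. -/
def betaFun (X : FormalCoproduct.{u} D) (ψ : FY.obj X ⟶ (Rsh JD).obj I) :
    ∀ i : X.I, I.obj.obj (op (X.obj i)) :=
  fun i => ψ.app (op (X.obj i)) (sig X (X.obj i) i (𝟙 _))

lemma betaFun_bijective (X : FormalCoproduct.{u} D) : Function.Bijective (betaFun JD I X) := by
  constructor
  · intro ψ ψ' h
    ext V x
    obtain ⟨V⟩ := V
    obtain ⟨i, s, rfl⟩ := sig_surj X V x
    have e : sig X V i s = (FY.obj X).map s.op (sig X (X.obj i) i (𝟙 _)) := by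
      rw [map_sig, Category.comp_id]
    have hψ := NatTrans.naturality_apply ψ s.op (sig X (X.obj i) i (𝟙 _))
    have hψ' := NatTrans.naturality_apply ψ' s.op (sig X (X.obj i) i (𝟙 _))
    have hi : ψ.app (op (X.obj i)) (sig X (X.obj i) i (𝟙 _)) =
        ψ'.app (op (X.obj i)) (sig X (X.obj i) i (𝟙 _)) := congrFun h i
    have key : ψ.app (op V) (sig X V i s) = ψ'.app (op V) (sig X V i s) := by
      rw [e]
      exact hψ.trans ((congrArg (((Rsh JD).obj I).map s.op) hi).trans hψ'.symm)
    exact key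
  · intro t
    refine ⟨Sigma.desc (fun i => (yonedaEquiv (F := (Rsh JD).obj I)).symm (t i)), ?_⟩
    funext i
    have h : Sigma.ι (yfam X) i ≫
        Sigma.desc (fun i => (yonedaEquiv (F := (Rsh JD).obj I)).symm (t i)) =
        (yonedaEquiv (F := (Rsh JD).obj I)).symm (t i) :=
      Sigma.ι_desc (fun i => (yonedaEquiv (F := (Rsh JD).obj I)).symm (t i)) i
    have h2 := types_congr_hom (congr_app h (op (X.obj i))) (𝟙 _)
    refine h2.trans ?_
    refine (yonedaEquiv_symm_app_apply (F := (Rsh JD).obj I) (t i) (op (X.obj i)) (𝟙 _)).trans ?_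
    exact Functor.map_id_apply ((Rsh JD).obj I) (op (X.obj i)) (t i)

lemma PsiApp_bijective (X : FormalCoproduct.{u} D) : Function.Bijective (PsiApp JD I X) := by
  have h : (Concrete.productEquiv (fun i : X.I => I.obj.obj (op (X.obj i)))) ∘
      (PsiApp JD I X) = (betaFun JD I X) ∘ ((adjT JD).homEquiv (FY.obj X) I) := by
    funext φ
    funext i
    simp only [Function.comp_apply, Concrete.productEquiv_apply_apply]
    have h1 : PsiApp JD I X ≫ Pi.π _ i = AddCommGrpCat.ofHom (evHom JD I X i) :=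
      Pi.lift_π _ _
    have h2 := ConcreteCategory.congr_hom h1 φ
    refine h2.trans ?_
    exact (homEquiv_app_apply JD I (FY.obj X) φ (X.obj i) _).symm
  have hb : Function.Bijective ((betaFun JD I X) ∘ ((adjT JD).homEquiv (FY.obj X) I)) :=
    (betaFun_bijective JD I X).comp ((adjT JD).homEquiv _ _).bijective
  rw [← h] at hb
  exact (Function.Bijective.of_comp_iff' (Concrete.productEquiv _).bijective _).1 hb

instance PsiNat_isIso : IsIso (PsiNat JD I) := by
  haveI : ∀ X, IsIso ((PsiNat JD I).app X) := fun X =>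
    (ConcreteCategory.isIso_iff_bijective _).2 (PsiApp_bijective JD I X.unop)
  exact NatIso.isIso_of_isIso_app _

variable (K : SimplicialObject (FormalCoproduct.{u} D))

/-- The cosimplicial abelian group `Hom(ℤ[F(K)]^#, I)` is the Čech cosimplicial object. -/
def cosimpIso : (Hyper.freeSimplicialSheaf JD K).rightOp ⋙ preadditiveYoneda.obj I ≅
    (FormalCoproduct.cosimplicialObjectFunctor K).obj I.obj :=
  Functor.isoWhiskerLeft K.rightOp (asIso (PsiNat JD I))

instance preservesHomology_yoneda_of_injective [Injective I] :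
    (preadditiveYoneda.obj I).PreservesHomology := by
  haveI := (Injective.injective_iff_preservesEpimorphisms_preadditiveYoneda_obj I).1 inferInstance
  apply Functor.preservesHomology_of_preservesEpis_and_kernels

theorem cech_homology_iso [Injective I] (p : ℕ) :
    Nonempty ((Hyper.cechCxSite K I.obj).homology p ≅
      (preadditiveYoneda.obj I).obj (op ((Hyper.freeChainCx JD K).homology p))) := by
  obtain ⟨e⟩ := cofaceHomologyIso (Hyper.freeSimplicialSheaf JD K) (preadditiveYoneda.obj I) p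
  exact ⟨(HomologicalComplex.homologyMapIso
    ((alternatingCofaceMapComplex AddCommGrpCat.{u}).mapIso (cosimpIso JD I K)) p).symm ≪≫ e⟩

end Site

end Groth.Agent.Lib.Helper6.HyperQI
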