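import Mathlib.AlgebraicTopology.AlternatingFaceMapComplex
import Mathlib.Algebra.Homology.ShortComplex.PreservesHomology
import Mathlib.Algebra.Homology.ShortComplex.HomologicalComplex
import Mathlib.Algebra.Homology.Opposite
import Mathlib.Algebra.Category.Grp.Abelian
import Mathlib.CategoryTheory.Abelian.Opposite
import Mathlib.CategoryTheory.Preadditive.Opposite

/-!
# Cohomology of `F(S)` for a simplicial object `S` and an exact contravariant functor `F`
-/

set_option autoImplicit false
set_option linter.unusedSectionVars false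
set_option linter.unusedVariables false
set_option linter.unusedSimpArgs false
set_option linter.style.haveILetI false
set_option maxHeartbeats 800000

noncomputable section

namespace Groth.Agent.Lib.Helper6.HyperQI

open CategoryTheory Limits SimplexCategory Simplicial Opposite AlgebraicTopology

universe w

section G

variable {𝒜 : Type*} [Category 𝒜] [Abelian 𝒜] (S : SimplicialObject 𝒜)
  (F : 𝒜ᵒᵖ ⥤ AddCommGrpCat.{w}) [F.Additive] [F.PreservesHomology]

/-- The alternating face map complex of `S`. -/
abbrev faceCx : ChainComplex 𝒜 ℕ := (alternatingFaceMapComplex 𝒜).obj S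

/-- The alternating coface map complex of `F(S)`. -/
abbrev cofaceCx : CochainComplex AddCommGrpCat.{w} ℕ :=
  (alternatingCofaceMapComplex AddCommGrpCat.{w}).obj (S.rightOp ⋙ F)

lemma cofaceCx_d (n : ℕ) :
    (cofaceCx S F).d n (n + 1) = F.map ((faceCx S).d (n + 1) n).op := by
  have h1 : (cofaceCx S F).d n (n + 1) = AlternatingCofaceMapComplex.objD (S.rightOp ⋙ F) n :=
    CochainComplex.of_d (fun n => (S.rightOp ⋙ F).obj ⦋n⦌)
      (AlternatingCofaceMapComplex.objD (S.rightOp ⋙ F)) n
  have h2 : (faceCx S).d (n + 1) n = AlternatingFaceMapComplex.objD S n :=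
    AlternatingFaceMapComplex.obj_d_eq S n
  rw [h1, h2]
  simp only [AlternatingCofaceMapComplex.objD, AlternatingFaceMapComplex.objD, op_sum, op_zsmul,
    Functor.map_sum, Functor.map_zsmul]
  rfl

/-- The identification of short complexes in positive degrees. -/
def scIsoSucc (q : ℕ) : (cofaceCx S F).sc' q (q + 1) (q + 2) ≅
    (((faceCx S).sc' (q + 2) (q + 1) q).op).map F :=
  ShortComplex.isoMk (Iso.refl _) (Iso.refl _) (Iso.refl _)
    (by
      show 𝟙 _ ≫ F.map ((faceCx S).d (q + 1) q).op = (cofaceCx S F).d q (q + 1) ≫ 𝟙 _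
      rw [Category.id_comp, Category.comp_id, cofaceCx_d])
    (by
      show 𝟙 _ ≫ F.map ((faceCx S).d (q + 2) (q + 1)).op = (cofaceCx S F).d (q + 1) (q + 2) ≫ 𝟙 _
      rw [Category.id_comp, Category.comp_id, cofaceCx_d])

/-- The identification of short complexes in degree zero. -/
def scIsoZero : (cofaceCx S F).sc' 0 0 1 ≅ (((faceCx S).sc' 1 0 0).op).map F :=
  ShortComplex.isoMk (Iso.refl _) (Iso.refl _) (Iso.refl _)
    (by
      show 𝟙 _ ≫ F.map ((faceCx S).d 0 0).op = (cofaceCx S F).d 0 0 ≫ 𝟙 _
      rw [(faceCx S).shape 0 0 (by simp), (cofaceCx S F).shape 0 0 (by simp), op_zero,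
        F.map_zero]
      exact (Limits.comp_zero).trans (Limits.zero_comp).symm)
    (by
      show 𝟙 _ ≫ F.map ((faceCx S).d 1 0).op = (cofaceCx S F).d 0 1 ≫ 𝟙 _
      rw [Category.id_comp, Category.comp_id, cofaceCx_d])

/-- The homology isomorphism deduced from an identification of short complexes. -/
def homologyIsoOfSc (i p k : ℕ) (hi : (ComplexShape.up ℕ).prev p = i)
    (hk : (ComplexShape.up ℕ).next p = k) (hi' : (ComplexShape.down ℕ).next p = i)
    (hk' : (ComplexShape.down ℕ).prev p = k)
    (e : (cofaceCx S F).sc' i p k ≅ (((faceCx S).sc' k p i).op).map F) :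
    (cofaceCx S F).homology p ≅ F.obj (op ((faceCx S).homology p)) :=
  (cofaceCx S F).homologyIsoSc' i p k hi hk ≪≫ ShortComplex.homologyMapIso e ≪≫
    (((faceCx S).sc' k p i).op).mapHomologyIso F ≪≫
    F.mapIso (((faceCx S).sc' k p i).homologyOpIso) ≪≫
    F.mapIso (((faceCx S).homologyIsoSc' k p i hk' hi').op)

theorem cofaceHomologyIso (p : ℕ) :
    Nonempty ((cofaceCx S F).homology p ≅ F.obj (op ((faceCx S).homology p))) := by
  cases p with
  | zero =>
    exact ⟨homologyIsoOfSc S F 0 0 1 (by simp) (by simp) (by simp) (by simp) (scIsoZero S F)⟩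
  | succ q =>
    exact ⟨homologyIsoOfSc S F q (q + 1) (q + 2) (by simp) (by simp) (by simp) (by simp)
      (scIsoSucc S F q)⟩

end G

end Groth.Agent.Lib.Helper6.HyperQI
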