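import Groth.Agent.Lib.Helper6.HyperQI.CoskGen
import Groth.Agent.Lib.Helper6.HyperQI.SRCov
import Groth.Agent.Lib.Helper6.HyperQI.FCYoneda
import Mathlib.CategoryTheory.Limits.ConcreteCategory.Basic
import Mathlib.CategoryTheory.Sites.LocallySurjective

/-!
# Elements of coskeleta of simplicial presheaves, and coverings from local surjectivity
-/

set_option autoImplicit false
set_option linter.unusedSectionVars false
set_option linter.unusedVariables false
set_option linter.unusedSimpArgs false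
set_option linter.style.haveILetI false
set_option maxHeartbeats 800000

noncomputable section

namespace Groth.Agent.Lib.Helper6.HyperQI

open CategoryTheory Limits SimplexCategory Simplicial Opposite SimplicialObject

universe u

section Proj

variable {D : Type u} [SmallCategory D] (P : SimplicialObject (Dᵒᵖ ⥤ Type u)) (n : ℕ)

/-- The projection of the `n`-coskeleton to a simplex of dimension `≤ n`. -/
def coskProj (Δ' : SimplexCategory) (h : Δ'.len ≤ n) {Δ : SimplexCategory} (θ : Δ' ⟶ Δ) :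
    ((cosk n).obj P).obj (op Δ) ⟶ P.obj (op Δ') :=
  ((cosk n).obj P).map θ.op ≫ (coskε n P).app (op ⟨Δ', h⟩)

lemma unit_coskε_app (Δ' : SimplexCategory) (h : Δ'.len ≤ n) :
    ((coskAdj n).unit.app P).app (op Δ') ≫ (coskε n P).app (op ⟨Δ', h⟩) = 𝟙 _ :=
  congr_app (unit_coskε n P) (op ⟨Δ', h⟩)

lemma proj_unit (Δ' : SimplexCategory) (h : Δ'.len ≤ n) {Δ : SimplexCategory} (θ : Δ' ⟶ Δ) :
    ((coskAdj n).unit.app P).app (op Δ) ≫ coskProj P n Δ' h θ = P.map θ.op := by
  unfold coskProj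
  rw [← Category.assoc, ← ((coskAdj n).unit.app P).naturality θ.op, Category.assoc]
  have h2 := unit_coskε_app P n Δ' h
  exact (congrArg (fun t => P.map θ.op ≫ t) h2).trans (Category.comp_id _)

lemma coskε_naturality (Δ' Δ'' : SimplexCategory) (h : Δ'.len ≤ n) (h'' : Δ''.len ≤ n)
    (β : Δ'' ⟶ Δ') :
    (coskε n P).app (op ⟨Δ', h⟩) ≫ P.map β.op =
      ((cosk n).obj P).map β.op ≫ (coskε n P).app (op ⟨Δ'', h''⟩) :=
  ((coskε n P).naturality
    (ObjectProperty.homMk β : (⟨Δ'', h''⟩ : SimplexCategory.Truncated n) ⟶ ⟨Δ', h⟩).op).symm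

lemma proj_comp (Δ' Δ'' : SimplexCategory) (h : Δ'.len ≤ n) (h'' : Δ''.len ≤ n)
    {Δ : SimplexCategory} (θ : Δ' ⟶ Δ) (β : Δ'' ⟶ Δ') :
    coskProj P n Δ' h θ ≫ P.map β.op = coskProj P n Δ'' h'' (β ≫ θ) := by
  unfold coskProj
  rw [Category.assoc, coskε_naturality P n Δ' Δ'' h h'' β, ← Category.assoc,
    ← Functor.map_comp, ← op_comp]

lemma cosk_ext {Δ : SimplexCategory} {V : D}
    (y y' : (((cosk n).obj P).obj (op Δ)).obj (op V))
    (h : ∀ (Δ' : SimplexCategory) (hΔ' : Δ'.len ≤ n) (θ : Δ' ⟶ Δ),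
      (coskProj P n Δ' hΔ' θ).app (op V) y = (coskProj P n Δ' hΔ' θ).app (op V) y') :
    y = y' := by
  have hpt := Functor.isPointwiseRightKanExtensionOfIsRightKanExtension ((cosk n).obj P)
    (coskε n P)
  have hlim := isLimitOfPreserves ((evaluation Dᵒᵖ (Type u)).obj (op V)) (hpt (op Δ))
  refine Concrete.isLimit_ext _ hlim y y' (fun j => ?_)
  exact h j.right.unop.obj j.right.unop.property j.hom.unop

end Proj

section SR

variable {D : Type u} [SmallCategory D] (JD : GrothendieckTopology D)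

lemma sig_congr [∀ A A' : D, Subsingleton (A ⟶ A')] (X : FormalCoproduct.{u} D) (V : D)
    {i j : X.I} (h : i = j) (s : V ⟶ X.obj i) (t : V ⟶ X.obj j) :
    sig X V i s = sig X V j t := by
  subst h
  exact congrArg (sig X V i) (Subsingleton.elim _ _)

lemma isSRCovering_of_isLocallySurjective {K L : FormalCoproduct.{u} D} (f : K ⟶ L)
    (hf : Presheaf.IsLocallySurjective JD (FY.map f)) : Hyper.IsSRCovering JD f := by
  intro j
  have h := hf.imageSieve_mem (sig L (L.obj j) j (𝟙 _))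
  refine JD.superset_covering ?_ h
  intro V g hg
  obtain ⟨t, ht⟩ := hg
  obtain ⟨i, s, rfl⟩ := sig_surj K V t
  rw [FY_map_sig, map_sig] at ht
  have h2 := sig_inj L V _ _ ht
  obtain ⟨h3, h4⟩ := Sigma.mk.inj_iff.1 h2
  subst h3
  have h5 : s ≫ f.φ i = g := by rw [eq_of_heq h4, Category.comp_id]
  rw [← h5]
  have h6 : (Sieve.ofArrows (fun i' : {i' : K.I // f.f i' = f.f i} => K.obj i'.1)
      (fun i' => f.φ i'.1 ≫ eqToHom (congrArg L.obj i'.2))).arrows
      (f.φ i ≫ eqToHom rfl) :=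
    Sieve.ofArrows_mk (fun i' : {i' : K.I // f.f i' = f.f i} => K.obj i'.1)
      (fun i' => f.φ i'.1 ≫ eqToHom (congrArg L.obj i'.2)) ⟨i, rfl⟩
  rw [eqToHom_refl, Category.comp_id] at h6
  exact Sieve.downward_closed _ h6 s

lemma isSRCovering_unit_of_locSurj (K : SimplicialObject (FormalCoproduct.{u} D)) (n : ℕ)
    [∀ F : (SimplexCategory.Truncated n)ᵒᵖ ⥤ FormalCoproduct.{u} D,
      (Truncated.inclusion n).op.HasRightKanExtension F]
    (h : Presheaf.IsLocallySurjective JD
      (((coskAdj n).unit.app (K ⋙ FY)).app (op ⦋n + 1⦌))) :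
    Hyper.IsSRCovering JD (((coskAdj n).unit.app K).app (op ⦋n + 1⦌)) := by
  have e := congr_app (coskCompIso_unit FY n K) (op ⦋n + 1⦌)
  rw [NatTrans.comp_app, Functor.whiskerRight_app] at e
  have e2 : FY.map (((coskAdj n).unit.app K).app (op ⦋n + 1⦌)) =
      ((coskAdj n).unit.app (K ⋙ FY)).app (op ⦋n + 1⦌) ≫
        (coskCompIso FY n K).inv.app (op ⦋n + 1⦌) := by
    rw [← e, Category.assoc, Iso.hom_inv_id_app, Category.comp_id]
  refine isSRCovering_of_isLocallySurjective JD _ ?_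
  rw [e2]
  haveI := h
  infer_instance

end SR

end Groth.Agent.Lib.Helper6.HyperQI
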