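import Groth.Agent.Lib.Helper6.HyperQI.CechHom
import Mathlib.Algebra.Homology.DerivedCategory.Ext.ExactSequences
import Mathlib.Algebra.Homology.DerivedCategory.Ext.EnoughInjectives
import Mathlib.CategoryTheory.Sites.SheafCohomology.Basic
import Mathlib.CategoryTheory.Abelian.GrothendieckCategory.EnoughInjectives
import Mathlib.Algebra.Homology.ShortComplex.Ab
import Mathlib.Algebra.Category.Grp.EpiMono

/-!
# Sections of a short exact sequence of abelian sheaves and `Ext` from free sheaves
-/

set_option autoImplicit false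
set_option linter.unusedSectionVars false
set_option linter.unusedVariables false
set_option linter.unusedSimpArgs false
set_option linter.style.haveILetI false
set_option maxHeartbeats 800000

noncomputable section

namespace Groth.Agent.Lib.Helper6.HyperQI

open CategoryTheory Limits Opposite Abelian

universe u

variable {C : Type u} [SmallCategory C] (J : GrothendieckTopology C)

section Sections

variable {J}
variable {S : ShortComplex (Sheaf J AddCommGrpCat.{u})} (hS : S.ShortExact)

include hS in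
lemma sections_injective (U : C) : Function.Injective (S.f.hom.app (op U)) := by
  haveI := hS.mono_f
  haveI : Mono S.f.hom := (Sheaf.Hom.mono_iff_presheaf_mono J _ S.f).1 inferInstance
  haveI : Mono (S.f.hom.app (op U)) := (NatTrans.mono_iff_mono_app S.f.hom).1 inferInstance (op U)
  exact (AddCommGrpCat.mono_iff_injective _).1 inferInstance

include hS in
lemma sections_exact (U : C) (y : S.X₂.obj.obj (op U)) (hy : S.g.hom.app (op U) y = 0) :
    ∃ x, S.f.hom.app (op U) x = y := by
  haveI := hS.mono_f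
  have h := hS.exact.map_of_mono_of_preservesKernel
    (sheafToPresheaf J AddCommGrpCat.{u} ⋙ (evaluation Cᵒᵖ AddCommGrpCat.{u}).obj (op U))
    inferInstance inferInstance
  exact (ShortComplex.ab_exact_iff _).1 h y hy

end Sections

section ExtPart

variable [HasExt.{u} (Sheaf J AddCommGrpCat.{u})]
variable {S : ShortComplex (Sheaf J AddCommGrpCat.{u})} (hS : S.ShortExact)

include hS in
lemma ext_succ_subsingleton_X₃ [Injective S.X₂] (Z : Sheaf J AddCommGrpCat.{u}) (q : ℕ)
    (h : Subsingleton (Ext Z S.X₁ (q + 2))) : Subsingleton (Ext Z S.X₃ (q + 1)) := by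
  have key : ∀ x : Ext Z S.X₃ (q + 1), x = 0 := by
    intro x
    obtain ⟨x₂, hx₂⟩ := Ext.covariant_sequence_exact₃ Z hS x (rfl : q + 1 + 1 = q + 2)
      (Subsingleton.elim _ _)
    rw [← hx₂, Ext.eq_zero_of_injective x₂, Ext.zero_comp]
  exact ⟨fun x x' => (key x).trans (key x').symm⟩

include hS in
lemma sections_surjective (U : C)
    (h : Subsingleton (Ext ((Lsh J).obj (yoneda.obj U)) S.X₁ 1)) :
    Function.Surjective (S.g.hom.app (op U)) := by
  intro s
  obtain ⟨ζ, hζ⟩ : ∃ ζ : (Lsh J).obj (yoneda.obj U) ⟶ S.X₃,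
      (adjT J).homEquiv (yoneda.obj U) S.X₃ ζ =
        (yonedaEquiv (F := (Rsh J).obj S.X₃)).symm s :=
    ⟨((adjT J).homEquiv _ _).symm _, Equiv.apply_symm_apply _ _⟩
  obtain ⟨x₂, hx₂⟩ := Ext.covariant_sequence_exact₃ _ hS (Ext.mk₀ ζ) (zero_add 1)
    (Subsingleton.elim _ _)
  obtain ⟨η, rfl⟩ := (Ext.mk₀_bijective _ _).2 x₂
  rw [Ext.mk₀_comp_mk₀] at hx₂
  have hηζ : η ≫ S.g = ζ := (Ext.mk₀_bijective _ _).1 hx₂
  refine ⟨η.hom.app (op U) (gen J (yoneda.obj U) U (𝟙 U)), ?_⟩
  have e1 : S.g.hom.app (op U) (η.hom.app (op U) (gen J (yoneda.obj U) U (𝟙 U))) =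
      ζ.hom.app (op U) (gen J (yoneda.obj U) U (𝟙 U)) :=
    congrArg (fun m : (Lsh J).obj (yoneda.obj U) ⟶ S.X₃ =>
      m.hom.app (op U) (gen J (yoneda.obj U) U (𝟙 U))) hηζ
  have e2 := homEquiv_app_apply J S.X₃ (yoneda.obj U) ζ U (𝟙 U)
  rw [hζ] at e2
  refine e1.trans (e2.symm.trans ?_)
  refine (yonedaEquiv_symm_app_apply (F := (Rsh J).obj S.X₃) s (op U) (𝟙 U)).trans ?_
  exact Functor.map_id_apply ((Rsh J).obj S.X₃) (op U) s

end ExtPart

/-- Abelian sheaves on a small site have enough injectives. -/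
lemma sheaf_enoughInjectives : EnoughInjectives (Sheaf J AddCommGrpCat.{u}) := by
  haveI : IsGrothendieckAbelian.{u} (Sheaf J AddCommGrpCat.{u}) :=
    Sheaf.isGrothendieckAbelian_of_essentiallySmall _ _
  exact IsGrothendieckAbelian.enoughInjectives.{u}

end Groth.Agent.Lib.Helper6.HyperQI
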