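import Groth.Agent.Lib.Helper6.HyperQI.GenLab

/-!
# Filling boundaries in the simplicial object of labellings
-/

set_option autoImplicit false
set_option linter.unusedSectionVars false
set_option linter.unusedVariables false
set_option linter.unusedSimpArgs false
set_option linter.style.haveILetI false
set_option maxHeartbeats 1600000

noncomputable section

namespace Groth.Agent.Lib.Helper6.HyperQI

open CategoryTheory Limits SimplexCategory Simplicial Opposite SimplicialObject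

universe u

section Sig

variable {D : Type u} [SmallCategory D]

lemma sig_inj' (X : FormalCoproduct.{u} D) (V : D) {i j : X.I} (s : V ⟶ X.obj i)
    (t : V ⟶ X.obj j) (h : sig X V i s = sig X V j t) :
    ∃ hij : i = j, s ≫ eqToHom (congrArg X.obj hij) = t := by
  have h2 := sig_inj X V s t h
  obtain ⟨h3, h4⟩ := Sigma.mk.inj_iff.1 h2
  subst h3
  refine ⟨rfl, ?_⟩
  rw [eqToHom_refl, Category.comp_id]
  exact eq_of_heq h4

lemma sig_congr' (X : FormalCoproduct.{u} D) (V : D) {i j : X.I} (hij : i = j)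
    (s : V ⟶ X.obj i) (t : V ⟶ X.obj j) (hst : s ≫ eqToHom (congrArg X.obj hij) = t) :
    sig X V i s = sig X V j t := by
  subst hij
  rw [eqToHom_refl, Category.comp_id] at hst
  rw [hst]

end Sig

section Fill

variable {D : Type u} [SmallCategory D] {𝓑 : Set D}

lemma small_comp {n : ℕ} {Δ' Δ'' : SimplexCategory} (α : Δ' ⟶ ⦋n + 1⦌) (β : Δ'' ⟶ Δ')
    (hα : (image α).len ≤ n) : (image (β ≫ α)).len ≤ n := by
  let F' : MonoFactorisation (β ≫ α) :=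
    { I := image α
      m := image.ι α
      e := β ≫ factorThruImage α
      fac := by rw [Category.assoc, image.fac] }
  have hι : image.lift F' ≫ image.ι α = image.ι (β ≫ α) := image.lift_fac F'
  haveI : Mono (image.lift F') := mono_of_mono_fac hι
  exact (len_le_of_mono (image.lift F')).trans hα

lemma small_congr {n : ℕ} {Δ' : SimplexCategory} {α α' : Δ' ⟶ ⦋n + 1⦌} (h : α = α') :
    (image α).len ≤ n ↔ (image α').len ≤ n := by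
  subst h
  exact Iff.rfl

lemma small_of_len {n : ℕ} {Δ₁ : SimplexCategory} (θ₁ : Δ₁ ⟶ ⦋n + 1⦌) (h₁ : Δ₁.len ≤ n) :
    (image θ₁).len ≤ n :=
  (len_le_of_epi (factorThruImage θ₁)).trans h₁

lemma not_small_id (n : ℕ) : ¬ (image (𝟙 ⦋n + 1⦌)).len ≤ n := by
  intro h
  haveI : Epi (image.ι (𝟙 ⦋n + 1⦌)) := epi_of_epi_fac (image.fac (𝟙 ⦋n + 1⦌))
  have h2 := len_le_of_epi (image.ι (𝟙 ⦋n + 1⦌))
  have h3 : (⦋n + 1⦌ : SimplexCategory).len = n + 1 := rfl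
  omega

lemma objS_eq {Δ' Δ'' : SimplexCategory} {β : Δ'' ⟶ Δ'} {A : Lab 𝓑 Δ'} {A' : Lab 𝓑 Δ''}
    (h : pullL 𝓑 β A = A') : A.obj Δ'' β = A'.obj Δ'' (𝟙 _) := by
  rw [← h]
  show A.obj Δ'' β = A.obj Δ'' (𝟙 _ ≫ β)
  rw [Category.id_comp]

lemma objP_eq {Δ' Δ'' Δ''' : SimplexCategory} {β : Δ'' ⟶ Δ'} {A : Lab 𝓑 Δ'} {A' : Lab 𝓑 Δ''}
    (h : pullL 𝓑 β A = A') (β' : Δ''' ⟶ Δ'') : A.obj Δ''' (β' ≫ β) = A'.obj Δ''' β' := by
  rw [← h]
  rfl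

lemma res_pull {Δ' Δ'' Δ''' : SimplexCategory} (A : Lab 𝓑 Δ') (β : Δ'' ⟶ Δ')
    {A' : Lab 𝓑 Δ''} (hW : pullL 𝓑 β A = A') (β' : Δ''' ⟶ Δ'') (γ : Δ''' ⟶ Δ'')
    (e : β' ≫ 𝟙 _ = γ) :
    A'.res (𝟙 _) β' γ e = eqToHom (objS_eq hW).symm ≫ A.res β β' (β' ≫ β) rfl ≫
      eqToHom ((objP_eq hW β').trans (congrArg (A'.obj Δ''')
        ((Category.comp_id β').symm.trans e))) := by
  subst hW
  have h1 := A.res_heq (Category.id_comp β) β'
    (show γ ≫ β = β' ≫ β by rw [← e, Category.comp_id])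
    (show β' ≫ (𝟙 _ ≫ β) = γ ≫ β by rw [← e, Category.comp_id, Category.id_comp]) rfl
  exact h1

/-- Boundary data: a compatible family of labellings and sections on all the non-surjective
simplices of the standard simplex. -/
structure Bdry (𝓑 : Set D) (n : ℕ) (U : D) where
  Wc : ∀ {Δ' : SimplexCategory} (α : Δ' ⟶ ⦋n + 1⦌), (image α).len ≤ n → Lab 𝓑 Δ'
  uc : ∀ {Δ' : SimplexCategory} (α : Δ' ⟶ ⦋n + 1⦌) (hα : (image α).len ≤ n),
    U ⟶ (Wc α hα).obj Δ' (𝟙 _)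
  hW : ∀ {Δ' Δ'' : SimplexCategory} (α : Δ' ⟶ ⦋n + 1⦌) (hα : (image α).len ≤ n)
    (β : Δ'' ⟶ Δ') (hβα : (image (β ≫ α)).len ≤ n),
    pullL 𝓑 β (Wc α hα) = Wc (β ≫ α) hβα
  hu : ∀ {Δ' Δ'' : SimplexCategory} (α : Δ' ⟶ ⦋n + 1⦌) (hα : (image α).len ≤ n)
    (β : Δ'' ⟶ Δ') (hβα : (image (β ≫ α)).len ≤ n),
    uc α hα ≫ (Wc α hα).res (𝟙 _) β β (Category.comp_id β) ≫
      eqToHom (objS_eq (hW α hα β hβα)) = uc (β ≫ α) hβα

variable {n : ℕ} {U : D} (b : Bdry 𝓑 n U) (V : D) (g : V ⟶ U)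

/-- The objects of the filling. -/
def objW (Δ' : SimplexCategory) (α : Δ' ⟶ ⦋n + 1⦌) : D :=
  if hα : (image α).len ≤ n then (b.Wc α hα).obj Δ' (𝟙 _) else V

lemma objW_small {Δ' : SimplexCategory} (α : Δ' ⟶ ⦋n + 1⦌) (hα : (image α).len ≤ n) :
    objW b V Δ' α = (b.Wc α hα).obj Δ' (𝟙 _) := dif_pos hα

lemma objW_big {Δ' : SimplexCategory} (α : Δ' ⟶ ⦋n + 1⦌) (hα : ¬ (image α).len ≤ n) :
    objW b V Δ' α = V := dif_neg hα

/-- The restriction maps of the filling. -/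
def resW {Δ' Δ'' : SimplexCategory} (α : Δ' ⟶ ⦋n + 1⦌) (β : Δ'' ⟶ Δ') :
    objW b V Δ' α ⟶ objW b V Δ'' (β ≫ α) :=
  if hα : (image α).len ≤ n then
    eqToHom (objW_small b V α hα) ≫ (b.Wc α hα).res (𝟙 _) β β (Category.comp_id β) ≫
      eqToHom (objS_eq (b.hW α hα β (small_comp α β hα))) ≫
      eqToHom (objW_small b V (β ≫ α) (small_comp α β hα)).symm
  else if hβα : (image (β ≫ α)).len ≤ n then
    eqToHom (objW_big b V α hα) ≫ g ≫ b.uc (β ≫ α) hβα ≫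
      eqToHom (objW_small b V (β ≫ α) hβα).symm
  else eqToHom (objW_big b V α hα) ≫ eqToHom (objW_big b V (β ≫ α) hβα).symm

lemma resW_S {Δ' Δ'' : SimplexCategory} (α : Δ' ⟶ ⦋n + 1⦌) (β : Δ'' ⟶ Δ')
    (hα : (image α).len ≤ n) (hβα : (image (β ≫ α)).len ≤ n) :
    resW b V g α β =
      eqToHom (objW_small b V α hα) ≫ (b.Wc α hα).res (𝟙 _) β β (Category.comp_id β) ≫
        eqToHom (objS_eq (b.hW α hα β hβα)) ≫ eqToHom (objW_small b V (β ≫ α) hβα).symm := by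
  unfold resW
  rw [dif_pos hα]

lemma resW_BS {Δ' Δ'' : SimplexCategory} (α : Δ' ⟶ ⦋n + 1⦌) (β : Δ'' ⟶ Δ')
    (hα : ¬ (image α).len ≤ n) (hβα : (image (β ≫ α)).len ≤ n) :
    resW b V g α β =
      eqToHom (objW_big b V α hα) ≫ g ≫ b.uc (β ≫ α) hβα ≫
        eqToHom (objW_small b V (β ≫ α) hβα).symm := by
  unfold resW
  rw [dif_neg hα, dif_pos hβα]

lemma resW_BB {Δ' Δ'' : SimplexCategory} (α : Δ' ⟶ ⦋n + 1⦌) (β : Δ'' ⟶ Δ')
    (hα : ¬ (image α).len ≤ n) (hβα : ¬ (image (β ≫ α)).len ≤ n) :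
    resW b V g α β =
      eqToHom (objW_big b V α hα) ≫ eqToHom (objW_big b V (β ≫ α) hβα).symm := by
  unfold resW
  rw [dif_neg hα, dif_neg hβα]

lemma resW_id {Δ' : SimplexCategory} (α : Δ' ⟶ ⦋n + 1⦌) :
    resW b V g α (𝟙 _) ≫ eqToHom (congrArg (objW b V Δ') (Category.id_comp α)) = 𝟙 _ := by
  by_cases hα : (image α).len ≤ n
  · have hα' : (image (𝟙 _ ≫ α)).len ≤ n := (small_congr (Category.id_comp α)).2 hα
    rw [resW_S b V g α (𝟙 _) hα hα']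
    have h1 : (b.Wc α hα).res (𝟙 _) (𝟙 _) (𝟙 _) (Category.comp_id (𝟙 _)) = 𝟙 _ :=
      (b.Wc α hα).res_id (𝟙 _)
    rw [h1]
    simp
  · have hα' : ¬ (image (𝟙 _ ≫ α)).len ≤ n := fun h => hα ((small_congr (Category.id_comp α)).1 h)
    rw [resW_BB b V g α (𝟙 _) hα hα']
    simp

lemma resW_comp {Δ' Δ'' Δ''' : SimplexCategory} (α : Δ' ⟶ ⦋n + 1⦌) (β : Δ'' ⟶ Δ')
    (β' : Δ''' ⟶ Δ'') :
    resW b V g α β ≫ resW b V g (β ≫ α) β' = resW b V g α (β' ≫ β) := by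
  by_cases hα : (image α).len ≤ n
  · have hβα : (image (β ≫ α)).len ≤ n := small_comp α β hα
    have hγ : (image (β' ≫ β ≫ α)).len ≤ n := small_comp (β ≫ α) β' hβα
    have hγ' : (image ((β' ≫ β) ≫ α)).len ≤ n := hγ
    rw [resW_S b V g α β hα hβα, resW_S b V g (β ≫ α) β' hβα hγ,
      resW_S b V g α (β' ≫ β) hα hγ']
    have h1 := res_pull (b.Wc α hα) β (b.hW α hα β hβα) β' β' (Category.comp_id β')
    have h2 := (b.Wc α hα).res_comp (𝟙 _) β β (Category.comp_id β) β' (β' ≫ β) rfl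
    rw [h1, ← h2]
    simp
    rfl
  · by_cases hβα : (image (β ≫ α)).len ≤ n
    · have hγ : (image (β' ≫ β ≫ α)).len ≤ n := small_comp (β ≫ α) β' hβα
      have hγ' : (image ((β' ≫ β) ≫ α)).len ≤ n := hγ
      have e3 : resW b V g α (β' ≫ β) =
          eqToHom (objW_big b V α hα) ≫ g ≫ b.uc (β' ≫ β ≫ α) hγ ≫
            eqToHom (objW_small b V (β' ≫ β ≫ α) hγ).symm :=
        resW_BS b V g α (β' ≫ β) hα hγ'
      rw [resW_BS b V g α β hα hβα, resW_S b V g (β ≫ α) β' hβα hγ, e3]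
      have hu' := b.hu (β ≫ α) hβα β' hγ
      rw [← hu']
      simp
    · by_cases hγ : (image (β' ≫ β ≫ α)).len ≤ n
      · have hγ' : (image ((β' ≫ β) ≫ α)).len ≤ n := hγ
        rw [resW_BB b V g α β hα hβα, resW_BS b V g (β ≫ α) β' hβα hγ,
          resW_BS b V g α (β' ≫ β) hα hγ']
        simp
        rfl
      · have hγ' : ¬ (image ((β' ≫ β) ≫ α)).len ≤ n := hγ
        rw [resW_BB b V g α β hα hβα, resW_BB b V g (β ≫ α) β' hβα hγ,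
          resW_BB b V g α (β' ≫ β) hα hγ']
        simp
        rfl

/-- A labelling from restriction maps with targets of the form `β ≫ α`. -/
def Lab.ofRes {Δ : SimplexCategory} (obj : ∀ Δ' : SimplexCategory, (Δ' ⟶ Δ) → D)
    (mem : ∀ (Δ' : SimplexCategory) (α : Δ' ⟶ Δ), obj Δ' α ∈ 𝓑)
    (res' : ∀ {Δ' Δ'' : SimplexCategory} (α : Δ' ⟶ Δ) (β : Δ'' ⟶ Δ'),
      obj Δ' α ⟶ obj Δ'' (β ≫ α))
    (h1 : ∀ {Δ' : SimplexCategory} (α : Δ' ⟶ Δ),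
      res' α (𝟙 _) ≫ eqToHom (congrArg (obj Δ') (Category.id_comp α)) = 𝟙 _)
    (h2 : ∀ {Δ' Δ'' Δ''' : SimplexCategory} (α : Δ' ⟶ Δ) (β : Δ'' ⟶ Δ') (β' : Δ''' ⟶ Δ''),
      res' α β ≫ res' (β ≫ α) β' = res' α (β' ≫ β)) : Lab 𝓑 Δ where
  obj := obj
  mem := mem
  res α β γ e := res' α β ≫ eqToHom (congrArg (obj _) e)
  res_id α := h1 α
  res_comp α β γ h β' γ' h' := by
    subst h
    subst h'
    simp only [eqToHom_refl, Category.comp_id]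
    exact (h2 α β β').trans (Category.comp_id _).symm

/-- The filling of the boundary data with top object `V`. -/
def WW (hV : V ∈ 𝓑) : Lab 𝓑 ⦋n + 1⦌ :=
  Lab.ofRes (objW b V)
    (fun Δ' α => by
      by_cases hα : (image α).len ≤ n
      · rw [objW_small b V α hα]
        exact (b.Wc α hα).mem _ _
      · rw [objW_big b V α hα]
        exact hV)
    (fun α β => resW b V g α β) (fun α => resW_id b V g α)
    (fun α β β' => resW_comp b V g α β β')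

lemma WW_pull (hV : V ∈ 𝓑) {Δ₁ : SimplexCategory} (θ₁ : Δ₁ ⟶ ⦋n + 1⦌)
    (hθ₁ : (image θ₁).len ≤ n) : pullL 𝓑 θ₁ (WW b V g hV) = b.Wc θ₁ hθ₁ := by
  have hobj : ∀ (Δ' : SimplexCategory) (ρ : Δ' ⟶ Δ₁),
      (pullL 𝓑 θ₁ (WW b V g hV)).obj Δ' ρ = (b.Wc θ₁ hθ₁).obj Δ' ρ := by
    intro Δ' ρ
    show objW b V Δ' (ρ ≫ θ₁) = _
    rw [objW_small b V (ρ ≫ θ₁) (small_comp θ₁ ρ hθ₁)]
    exact (objS_eq (b.hW θ₁ hθ₁ ρ (small_comp θ₁ ρ hθ₁))).symm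
  refine Lab.ext' hobj ?_
  intro Δ' Δ'' ρ β γ e
  subst e
  show resW b V g (ρ ≫ θ₁) β ≫ eqToHom _ = _
  rw [resW_S b V g (ρ ≫ θ₁) β (small_comp θ₁ ρ hθ₁)
    (small_comp (ρ ≫ θ₁) β (small_comp θ₁ ρ hθ₁))]
  have h1 := res_pull (b.Wc θ₁ hθ₁) ρ (b.hW θ₁ hθ₁ ρ (small_comp θ₁ ρ hθ₁)) β β
    (Category.comp_id β)
  rw [h1]
  simp
  rfl

lemma uc_congr {Δ' : SimplexCategory} {α α' : Δ' ⟶ ⦋n + 1⦌} (hαα' : α = α')
    (hα : (image α).len ≤ n) (hα' : (image α').len ≤ n)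
    (p : (b.Wc α hα).obj Δ' (𝟙 _) = (b.Wc α' hα').obj Δ' (𝟙 _)) :
    b.uc α hα ≫ eqToHom p = b.uc α' hα' := by
  subst hαα'
  simp

lemma WW_top (hV : V ∈ 𝓑) {Δ₁ : SimplexCategory} (θ₁ : Δ₁ ⟶ ⦋n + 1⦌)
    (hθ₁ : (image θ₁).len ≤ n)
    (p : (WW b V g hV).obj _ (𝟙 _ ≫ θ₁) = (b.Wc θ₁ hθ₁).obj Δ₁ (𝟙 _)) :
    eqToHom (objW_big b V (𝟙 _) (not_small_id n)).symm ≫
      (WW b V g hV).res (𝟙 _) θ₁ (𝟙 _ ≫ θ₁) (by rw [Category.comp_id, Category.id_comp]) ≫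
      eqToHom p = g ≫ b.uc θ₁ hθ₁ := by
  have hs : (image (θ₁ ≫ 𝟙 _)).len ≤ n := (small_congr (Category.comp_id θ₁)).2 hθ₁
  show eqToHom _ ≫ (resW b V g (𝟙 _) θ₁ ≫ eqToHom _) ≫ eqToHom p = _
  rw [resW_BS b V g (𝟙 _) θ₁ (not_small_id n) hs]
  have h1 := uc_congr b (Category.comp_id θ₁) hs hθ₁
  simp only [Category.assoc, eqToHom_trans, eqToHom_trans_assoc, eqToHom_refl, Category.id_comp]
  rw [h1]

end Fill

end Groth.Agent.Lib.Helper6.HyperQI
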