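import Groth.Agent.Lib.Helper6.HyperQI.GenHyper

/-!
# The simplicial object of labellings is a hypercovering
-/

set_option autoImplicit false
set_option linter.unusedSectionVars false
set_option linter.unusedVariables false
set_option linter.unusedSimpArgs false
set_option linter.style.haveILetI false
set_option maxHeartbeats 1600000

noncomputable section

namespace Groth.Agent.Lib.Helper6.HyperQI

open CategoryTheory Limits SimplexCategory Simplicial Opposite SimplicialObject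

universe u

section Main

variable {D : Type u} [SmallCategory D] (𝓑 : Set D)

lemma hu_of_compat {Δ' Δ'' : SimplexCategory} (W : Lab 𝓑 Δ') (β : Δ'' ⟶ Δ')
    {W' : Lab 𝓑 Δ''} (hW : pullL 𝓑 β W = W')
    (p : W.obj Δ'' (𝟙 _ ≫ β) = W'.obj Δ'' (𝟙 _)) :
    W.res (𝟙 _) β β (Category.comp_id β) ≫ eqToHom (objS_eq hW) =
      W.res (𝟙 _) β (𝟙 _ ≫ β) (by rw [Category.comp_id, Category.id_comp]) ≫ eqToHom p := by
  have h1 := W.res_heq (rfl : 𝟙 Δ' = 𝟙 Δ') β (Category.id_comp β).symm (Category.comp_id β)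
    (by rw [Category.comp_id, Category.id_comp])
  rw [h1]
  simp

theorem lift_exists_gen (n : ℕ) (U V : D) (g : V ⟶ U) (hV : V ∈ 𝓑)
    (cf : ∀ (Δ₁ : SimplexCategory) (h₁ : Δ₁.len ≤ n) (θ₁ : Δ₁ ⟶ ⦋n + 1⦌),
      ((KG 𝓑 ⋙ FY).obj (op Δ₁)).obj (op U))
    (hcf : ∀ (Δ₁ Δ₂ : SimplexCategory) (h₁ : Δ₁.len ≤ n) (h₂ : Δ₂.len ≤ n)
      (θ₁ : Δ₁ ⟶ ⦋n + 1⦌) (β : Δ₂ ⟶ Δ₁),
      ((KG 𝓑 ⋙ FY).map β.op).app (op U) (cf Δ₁ h₁ θ₁) = cf Δ₂ h₂ (β ≫ θ₁)) :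
    ∃ t : ((KG 𝓑 ⋙ FY).obj (op ⦋n + 1⦌)).obj (op V),
      ∀ (Δ₁ : SimplexCategory) (h₁ : Δ₁.len ≤ n) (θ₁ : Δ₁ ⟶ ⦋n + 1⦌),
        ((KG 𝓑 ⋙ FY).map θ₁.op).app (op V) t =
          ((KG 𝓑 ⋙ FY).obj (op Δ₁)).map g.op (cf Δ₁ h₁ θ₁) := by
  have Pcomp : ∀ {a b c : SimplexCategoryᵒᵖ} (f : a ⟶ b) (h : b ⟶ c)
      (x : ((KG 𝓑 ⋙ FY).obj a).obj (op U)),
      ((KG 𝓑 ⋙ FY).map h).app (op U) (((KG 𝓑 ⋙ FY).map f).app (op U) x) =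
        ((KG 𝓑 ⋙ FY).map (f ≫ h)).app (op U) x := by
    intro a b c f h x
    rw [Functor.map_comp]
    rfl
  obtain ⟨ce, hce⟩ : ∃ ce : ∀ (Δ' : SimplexCategory) (α : Δ' ⟶ ⦋n + 1⦌)
      (hα : (image α).len ≤ n), ((KG 𝓑 ⋙ FY).obj (op Δ')).obj (op U),
      ∀ (Δ' : SimplexCategory) (α : Δ' ⟶ ⦋n + 1⦌) (hα : (image α).len ≤ n),
        ce Δ' α hα = ((KG 𝓑 ⋙ FY).map (factorThruImage α).op).app (op U)
          (cf (image α) hα (image.ι α)) := ⟨_, fun _ _ _ => rfl⟩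
  have EC : ∀ (Δ' Δ'' : SimplexCategory) (α : Δ' ⟶ ⦋n + 1⦌) (hα : (image α).len ≤ n)
      (β : Δ'' ⟶ Δ') (hβα : (image (β ≫ α)).len ≤ n),
      ((KG 𝓑 ⋙ FY).map β.op).app (op U) (ce Δ' α hα) = ce Δ'' (β ≫ α) hβα := by
    intro Δ' Δ'' α hα β hβα
    let F' : MonoFactorisation (β ≫ α) :=
      { I := image α
        m := image.ι α
        e := β ≫ factorThruImage α
        fac := by rw [Category.assoc, image.fac] }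
    have hj : image.lift F' ≫ image.ι α = image.ι (β ≫ α) := image.lift_fac F'
    have hfac : factorThruImage (β ≫ α) ≫ image.lift F' = β ≫ factorThruImage α :=
      image.fac_lift F'
    rw [hce, hce]
    have e1 : cf (image (β ≫ α)) hβα (image.ι (β ≫ α)) =
        ((KG 𝓑 ⋙ FY).map (image.lift F').op).app (op U) (cf (image α) hα (image.ι α)) := by
      rw [hcf (image α) (image (β ≫ α)) hα hβα (image.ι α) (image.lift F')]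
      exact congrArg (cf (image (β ≫ α)) hβα) hj.symm
    rw [e1, Pcomp, Pcomp]
    have e2 : (factorThruImage α).op ≫ β.op =
        (image.lift F').op ≫ (factorThruImage (β ≫ α)).op := by
      rw [← op_comp, ← op_comp, hfac]
    rw [e2]
  have EQ : ∀ (Δ₁ : SimplexCategory) (h₁ : Δ₁.len ≤ n) (θ₁ : Δ₁ ⟶ ⦋n + 1⦌)
      (hθ₁ : (image θ₁).len ≤ n), ce Δ₁ θ₁ hθ₁ = cf Δ₁ h₁ θ₁ := by
    intro Δ₁ h₁ θ₁ hθ₁
    rw [hce, hcf (image θ₁) Δ₁ hθ₁ h₁ (image.ι θ₁) (factorThruImage θ₁)]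
    exact congrArg (cf Δ₁ h₁) (image.fac θ₁)
  have hex : ∀ (Δ' : SimplexCategory) (α : Δ' ⟶ ⦋n + 1⦌) (hα : (image α).len ≤ n),
      ∃ (W : Lab 𝓑 Δ') (u : U ⟶ W.obj Δ' (𝟙 _)),
        sig ((KG 𝓑).obj (op Δ')) U W u = ce Δ' α hα :=
    fun Δ' α hα => sig_surj ((KG 𝓑).obj (op Δ')) U _
  choose Wc uc hc using hex
  have compat : ∀ (Δ' Δ'' : SimplexCategory) (α : Δ' ⟶ ⦋n + 1⦌) (hα : (image α).len ≤ n)
      (β : Δ'' ⟶ Δ') (hβα : (image (β ≫ α)).len ≤ n),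
      ∃ hW : pullL 𝓑 β (Wc Δ' α hα) = Wc Δ'' (β ≫ α) hβα,
        uc Δ' α hα ≫ (Wc Δ' α hα).res (𝟙 _) β β (Category.comp_id β) ≫
          eqToHom (objS_eq hW) = uc Δ'' (β ≫ α) hβα := by
    intro Δ' Δ'' α hα β hβα
    have e1 := EC Δ' Δ'' α hα β hβα
    rw [← hc Δ' α hα, ← hc Δ'' (β ≫ α) hβα] at e1
    have e2 := FY_map_sig ((KG 𝓑).map β.op) U (Wc Δ' α hα) (uc Δ' α hα)
    obtain ⟨hij, hst⟩ := sig_inj' ((KG 𝓑).obj (op Δ'')) U _ _ (e2.symm.trans e1)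
    refine ⟨hij, ?_⟩
    rw [hu_of_compat 𝓑 (Wc Δ' α hα) β hij (congrArg ((KG 𝓑).obj (op Δ'')).obj hij)]
    rw [← hst, Category.assoc]
    rfl
  let b : Bdry 𝓑 n U :=
    { Wc := fun {Δ'} α hα => Wc Δ' α hα
      uc := fun {Δ'} α hα => uc Δ' α hα
      hW := fun {Δ' Δ''} α hα β hβα => (compat Δ' Δ'' α hα β hβα).fst
      hu := fun {Δ' Δ''} α hα β hβα => (compat Δ' Δ'' α hα β hβα).snd }
  refine ⟨sig ((KG 𝓑).obj (op ⦋n + 1⦌)) V (WW b V g hV)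
    (eqToHom (objW_big b V (𝟙 _) (not_small_id n)).symm), ?_⟩
  intro Δ₁ h₁ θ₁
  have hθ₁ : (image θ₁).len ≤ n := small_of_len θ₁ h₁
  have el := FY_map_sig ((KG 𝓑).map θ₁.op) V (WW b V g hV)
    (eqToHom (objW_big b V (𝟙 _) (not_small_id n)).symm)
  have er : ((KG 𝓑 ⋙ FY).obj (op Δ₁)).map g.op (cf Δ₁ h₁ θ₁) =
      sig ((KG 𝓑).obj (op Δ₁)) V (Wc Δ₁ θ₁ hθ₁) (g ≫ uc Δ₁ θ₁ hθ₁) := by
    rw [← EQ Δ₁ h₁ θ₁ hθ₁, ← hc Δ₁ θ₁ hθ₁]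
    exact map_sig ((KG 𝓑).obj (op Δ₁)) g (Wc Δ₁ θ₁ hθ₁) (uc Δ₁ θ₁ hθ₁)
  refine el.trans (Eq.trans ?_ er.symm)
  refine sig_congr' ((KG 𝓑).obj (op Δ₁)) V (WW_pull b V g hV θ₁ hθ₁) _ _ ?_
  exact (Category.assoc _ _ _).trans (WW_top b V g hV θ₁ hθ₁ _)

end Main

end Groth.Agent.Lib.Helper6.HyperQI
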