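import Groth.Agent.Lib.Helper6.HyperQI.Tower
import Mathlib.CategoryTheory.Sites.ConstantSheaf

/-!
# Site version: the degree-one condition in terms of `K₁ ⟶ K₀ × K₀`, and the constant sheaf `ℤ`
-/

set_option autoImplicit false
set_option linter.unusedSectionVars false
set_option linter.unusedVariables false
set_option linter.unusedSimpArgs false
set_option linter.style.haveILetI false
set_option maxHeartbeats 800000

noncomputable section

namespace Groth.Agent.Lib.Helper6.HyperQI

open CategoryTheory Limits SimplexCategory Simplicial Opposite SimplicialObject AlgebraicTopology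

universe u

section

variable {C : Type u} [SmallCategory C] (J : GrothendieckTopology C)

lemma nonempty_terminal_obj (U : Cᵒᵖ) : Nonempty ((⊤_ (Cᵒᵖ ⥤ Type u)).obj U) :=
  ⟨(terminal.from ((Functor.const Cᵒᵖ).obj PUnit.{u + 1})).app U PUnit.unit⟩

variable (P : SimplicialObject (Cᵒᵖ ⥤ Type u))

lemma isIso_unit0 : IsIso (((coskAdj 0).unit.app P).app (op ⦋0⦌)) :=
  isIso_unit_app 0 P (op ⦋0⦌) (by show (0 : ℕ) ≤ 0; exact le_rfl)

/-- The comparison `(cosk₀ P)₁ ⟶ P₀ × P₀`. -/
def m01 : ((cosk 0).obj P).obj (op ⦋1⦌) ⟶ P.obj (op ⦋0⦌) ⨯ P.obj (op ⦋0⦌) :=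
  haveI := isIso_unit0 P
  prod.lift (((cosk 0).obj P).δ (1 : Fin 2) ≫ inv (((coskAdj 0).unit.app P).app (op ⦋0⦌)))
    (((cosk 0).obj P).δ (0 : Fin 2) ≫ inv (((coskAdj 0).unit.app P).app (op ⦋0⦌)))

lemma unit_m01 : ((coskAdj 0).unit.app P).app (op ⦋1⦌) ≫ m01 P =
    prod.lift (P.δ (1 : Fin 2)) (P.δ (0 : Fin 2)) := by
  haveI := isIso_unit0 P
  have nat : ∀ i : Fin 2, ((coskAdj 0).unit.app P).app (op ⦋1⦌) ≫ ((cosk 0).obj P).δ i =
      P.δ i ≫ ((coskAdj 0).unit.app P).app (op ⦋0⦌) :=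
    fun i => (((coskAdj 0).unit.app P).naturality (SimplexCategory.δ i).op).symm
  unfold m01
  rw [prod.comp_lift]
  congr 1
  · rw [← Category.assoc, nat, Category.assoc, IsIso.hom_inv_id, Category.comp_id]
  · rw [← Category.assoc, nat, Category.assoc, IsIso.hom_inv_id, Category.comp_id]

instance m01_mono : Mono (m01 P) := by
  haveI := isIso_unit0 P
  constructor
  intro Z f f' hff'
  have h1 : f ≫ ((cosk 0).obj P).δ (1 : Fin 2) = f' ≫ ((cosk 0).obj P).δ (1 : Fin 2) := by
    have := congrArg (fun t => t ≫ prod.fst) hff'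
    simp only [m01, Category.assoc, prod.lift_fst] at this
    rw [← Category.assoc, ← Category.assoc] at this
    exact (cancel_mono _).1 this
  have h0 : f ≫ ((cosk 0).obj P).δ (0 : Fin 2) = f' ≫ ((cosk 0).obj P).δ (0 : Fin 2) := by
    have := congrArg (fun t => t ≫ prod.snd) hff'
    simp only [m01, Category.assoc, prod.lift_snd] at this
    rw [← Category.assoc, ← Category.assoc] at this
    exact (cancel_mono _).1 this
  unfold SimplicialObject.δ at h1 h0
  rw [SimplexCategory.δ_one_eq_const] at h1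
  rw [SimplexCategory.δ_zero_eq_const] at h0
  have claim2 : ∀ k : Fin 2,
      f ≫ ((cosk 0).obj P).map (SimplexCategory.const ⦋0⦌ ⦋1⦌ k).op =
        f' ≫ ((cosk 0).obj P).map (SimplexCategory.const ⦋0⦌ ⦋1⦌ k).op := by
    rw [Fin.forall_fin_two]
    exact ⟨h1, h0⟩
  have claim : ∀ (a : SimplexCategory) (ha : a.len ≤ 0) (φ : a ⟶ ⦋1⦌),
      f ≫ ((cosk 0).obj P).map φ.op = f' ≫ ((cosk 0).obj P).map φ.op := by
    intro a ha φ
    obtain rfl : a = ⦋0⦌ := SimplexCategory.ext (Nat.le_zero.1 ha)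
    obtain ⟨k, rfl⟩ := SimplexCategory.exists_eq_const_of_zero φ
    exact claim2 k
  have hpt := Functor.isPointwiseRightKanExtensionOfIsRightKanExtension ((cosk 0).obj P)
    (𝟙 ((Truncated.inclusion 0).op ⋙ (cosk 0).obj P))
  refine (hpt (op ⦋1⦌)).hom_ext (fun j => ?_)
  have hπ : ((Functor.RightExtension.mk ((cosk 0).obj P)
      (𝟙 ((Truncated.inclusion 0).op ⋙ (cosk 0).obj P))).coneAt (op ⦋1⦌)).π.app j =
      ((cosk 0).obj P).map j.hom := by
    rw [Functor.RightExtension.coneAt_π_app]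
    exact Category.comp_id _
  rw [hπ]
  exact claim _ j.right.unop.property j.hom.unop

lemma unit0_isLocallySurjective
    (h : Presheaf.IsLocallySurjective J (prod.lift (P.δ (1 : Fin 2)) (P.δ (0 : Fin 2)))) :
    Presheaf.IsLocallySurjective J (((coskAdj 0).unit.app P).app (op ⦋1⦌)) := by
  haveI : Presheaf.IsLocallySurjective J (((coskAdj 0).unit.app P).app (op ⦋1⦌) ≫ m01 P) := by
    rw [unit_m01]
    exact h
  refine isLocallySurjective_of_comp_injective _ (m01 P) (fun U => ?_)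
  haveI : Mono ((m01 P).app U) := (NatTrans.mono_iff_mono_app (m01 P)).1 inferInstance U
  exact (mono_iff_injective _).1 inferInstance

end

/-- The free abelian group on a point is `ℤ`. -/
def freePUnitIso : AddCommGrpCat.free.{u}.obj PUnit.{u + 1} ≅ AddCommGrpCat.of (ULift.{u} ℤ) :=
  AddEquiv.toAddCommGrpIso
    ((FreeAbelianGroup.uniqueEquiv PUnit.{u + 1}).trans AddEquiv.ulift.symm)

end Groth.Agent.Lib.Helper6.HyperQI
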