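import Groth.Agent.Lib.Helper6.HyperQI.GenHyper2
import Groth.Agent.Lib.Helper6.HyperQI.SiteVer
import Mathlib.CategoryTheory.Limits.Types.Products
import Mathlib.CategoryTheory.Limits.Preserves.Shapes.Terminal
import Mathlib.CategoryTheory.Limits.FunctorCategory.Basic
import Mathlib.CategoryTheory.Sites.Over

/-!
# Hypercoverings with all objects in a class covering every object (general sites)
-/

set_option autoImplicit false
set_option linter.unusedSectionVars false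
set_option linter.unusedVariables false
set_option linter.unusedSimpArgs false
set_option linter.style.haveILetI false
set_option maxHeartbeats 1600000

noncomputable section

namespace Groth.Agent.Lib.Helper6.HyperQI

open CategoryTheory Limits SimplexCategory Simplicial Opposite SimplicialObject

universe u

section Main3

variable {D : Type u} [SmallCategory D] (𝓑 : Set D) (JD : GrothendieckTopology D)

/-- The constant labelling. -/
def Lab.const (A : D) (hA : A ∈ 𝓑) (Δ : SimplexCategory) : Lab 𝓑 Δ where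
  obj _ _ := A
  mem _ _ := hA
  res _ _ _ _ := 𝟙 A
  res_id _ := rfl
  res_comp _ _ _ _ _ _ _ := Category.id_comp _

/-- Every object is covered by maps factoring through objects of the class. -/
def CovBy : Prop := ∀ U : D, ∃ S : Sieve U, S ∈ JD U ∧
  ∀ ⦃V : D⦄ (g : V ⟶ U), S g → ∃ (V' : D) (a : V ⟶ V') (b : V' ⟶ U), V' ∈ 𝓑 ∧ a ≫ b = g

lemma prod_sec_ext {A B : Dᵒᵖ ⥤ Type u} (V : Dᵒᵖ) (x y : (A ⨯ B).obj V)
    (h1 : (prod.fst : A ⨯ B ⟶ A).app V x = (prod.fst : A ⨯ B ⟶ A).app V y)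
    (h2 : (prod.snd : A ⨯ B ⟶ B).app V x = (prod.snd : A ⨯ B ⟶ B).app V y) : x = y := by
  have hlim := isLimitOfPreserves ((evaluation Dᵒᵖ (Type u)).obj V) (limit.isLimit (pair A B))
  refine Concrete.isLimit_ext _ hlim x y (fun j => ?_)
  rcases j with ⟨_ | _⟩
  · exact h1
  · exact h2

lemma subsingleton_terminal_obj (U : Dᵒᵖ) : Subsingleton ((⊤_ (Dᵒᵖ ⥤ Type u)).obj U) := by
  have hT : IsTerminal ((⊤_ (Dᵒᵖ ⥤ Type u)).obj U) :=
    IsTerminal.isTerminalObj ((evaluation Dᵒᵖ (Type u)).obj U) _ terminalIsTerminal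
  haveI := Types.isTerminalEquivUnique _ hT
  infer_instance

lemma FYmap_unit_locSurj (K : SimplicialObject (FormalCoproduct.{u} D)) (n : ℕ)
    [∀ F : (SimplexCategory.Truncated n)ᵒᵖ ⥤ FormalCoproduct.{u} D,
      (Truncated.inclusion n).op.HasRightKanExtension F]
    (h : Presheaf.IsLocallySurjective JD
      (((coskAdj n).unit.app (K ⋙ FY)).app (op ⦋n + 1⦌))) :
    Presheaf.IsLocallySurjective JD
      (FY.map (((coskAdj n).unit.app K).app (op ⦋n + 1⦌))) := by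
  have e := congr_app (coskCompIso_unit FY n K) (op ⦋n + 1⦌)
  rw [NatTrans.comp_app, Functor.whiskerRight_app] at e
  have e2 : FY.map (((coskAdj n).unit.app K).app (op ⦋n + 1⦌)) =
      ((coskAdj n).unit.app (K ⋙ FY)).app (op ⦋n + 1⦌) ≫
        (coskCompIso FY n K).inv.app (op ⦋n + 1⦌) := by
    rw [← e, Category.assoc, Iso.hom_inv_id_app, Category.comp_id]
  rw [e2]
  haveI := h
  infer_instance

theorem KG_unit_locSurj (hcov : CovBy 𝓑 JD) (n : ℕ) :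
    Presheaf.IsLocallySurjective JD
      (((coskAdj n).unit.app (KG 𝓑 ⋙ FY)).app (op ⦋n + 1⦌)) where
  imageSieve_mem {U} c := by
    obtain ⟨S, hS, hfac⟩ := hcov U
    refine JD.superset_covering ?_ hS
    intro V g hg
    obtain ⟨V', a, b', hV', hab⟩ := hfac g hg
    have key : ∃ t : ((KG 𝓑 ⋙ FY).obj (op ⦋n + 1⦌)).obj (op V'),
        (((coskAdj n).unit.app (KG 𝓑 ⋙ FY)).app (op ⦋n + 1⦌)).app (op V') t =
          (((cosk n).obj (KG 𝓑 ⋙ FY)).obj (op ⦋n + 1⦌)).map b'.op c := by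
      obtain ⟨t, ht⟩ := lift_exists_gen 𝓑 n U V' b' hV'
        (fun Δ₁ h₁ θ₁ => (coskProj (KG 𝓑 ⋙ FY) n Δ₁ h₁ θ₁).app (op U) c)
        (fun Δ₁ Δ₂ h₁ h₂ θ₁ β => types_congr_hom
          (congr_app (proj_comp (KG 𝓑 ⋙ FY) n Δ₁ Δ₂ h₁ h₂ θ₁ β) (op U)) c)
      refine ⟨t, ?_⟩
      apply cosk_ext (KG 𝓑 ⋙ FY) n
      intro Δ₁ h₁ θ₁
      have el := types_congr_hom (congr_app (proj_unit (KG 𝓑 ⋙ FY) n Δ₁ h₁ θ₁) (op V')) t
      have er := NatTrans.naturality_apply (coskProj (KG 𝓑 ⋙ FY) n Δ₁ h₁ θ₁) b'.op c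
      exact el.trans ((ht Δ₁ h₁ θ₁).trans er.symm)
    have h3 : (Presheaf.imageSieve
        (((coskAdj n).unit.app (KG 𝓑 ⋙ FY)).app (op ⦋n + 1⦌)) c).arrows (a ≫ b') :=
      Sieve.downward_closed (Presheaf.imageSieve
        (((coskAdj n).unit.app (KG 𝓑 ⋙ FY)).app (op ⦋n + 1⦌)) c) key a
    rw [hab] at h3
    exact h3

theorem KG_terminal_locSurj (hcov : CovBy 𝓑 JD) :
    Presheaf.IsLocallySurjective JD
      (terminal.from (FY.obj ((KG 𝓑).obj (op ⦋0⦌)))) := by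
  refine isLocallySurjective_of_locNonempty _ (fun U => subsingleton_terminal_obj U) ?_
  intro U
  obtain ⟨S, hS, hfac⟩ := hcov U
  refine JD.superset_covering ?_ hS
  intro V g hg
  obtain ⟨V', a, b', hV', hab⟩ := hfac g hg
  exact Nonempty.intro (sig ((KG 𝓑).obj (op ⦋0⦌)) V (Lab.const 𝓑 V' hV' ⦋0⦌) a)

theorem KG_prod_locSurj (hcov : CovBy 𝓑 JD) :
    Presheaf.IsLocallySurjective JD
      (prod.lift (FY.map ((KG 𝓑).δ (1 : Fin 2))) (FY.map ((KG 𝓑).δ (0 : Fin 2)))) where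
  imageSieve_mem {U} x := by
    obtain ⟨S, hS, hfac⟩ := hcov U
    refine JD.superset_covering ?_ hS
    intro V g hg
    obtain ⟨V', a, b', hV', hab⟩ := hfac g hg
    have Pcomp : ∀ {a b c : SimplexCategoryᵒᵖ} (f : a ⟶ b) (h : b ⟶ c)
        (y : ((KG 𝓑 ⋙ FY).obj a).obj (op U)),
        ((KG 𝓑 ⋙ FY).map h).app (op U) (((KG 𝓑 ⋙ FY).map f).app (op U) y) =
          ((KG 𝓑 ⋙ FY).map (f ≫ h)).app (op U) y := by
      intro a b c f h y
      rw [Functor.map_comp]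
      rfl
    obtain ⟨pt, hpt0, hpt1⟩ : ∃ pt : ℕ → ((KG 𝓑 ⋙ FY).obj (op ⦋0⦌)).obj (op U),
        pt 0 = (prod.fst : FY.obj ((KG 𝓑).obj (op ⦋0⦌)) ⨯ FY.obj ((KG 𝓑).obj (op ⦋0⦌)) ⟶
          FY.obj ((KG 𝓑).obj (op ⦋0⦌))).app (op U) x ∧
        pt 1 = (prod.snd : FY.obj ((KG 𝓑).obj (op ⦋0⦌)) ⨯ FY.obj ((KG 𝓑).obj (op ⦋0⦌)) ⟶
          FY.obj ((KG 𝓑).obj (op ⦋0⦌))).app (op U) x :=
      ⟨fun k => if k = 0 then
          (prod.fst : FY.obj ((KG 𝓑).obj (op ⦋0⦌)) ⨯ FY.obj ((KG 𝓑).obj (op ⦋0⦌)) ⟶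
            FY.obj ((KG 𝓑).obj (op ⦋0⦌))).app (op U) x
        else
          (prod.snd : FY.obj ((KG 𝓑).obj (op ⦋0⦌)) ⨯ FY.obj ((KG 𝓑).obj (op ⦋0⦌)) ⟶
            FY.obj ((KG 𝓑).obj (op ⦋0⦌))).app (op U) x,
        if_pos rfl, if_neg one_ne_zero⟩
    obtain ⟨t, ht⟩ := lift_exists_gen 𝓑 0 U V' b' hV'
      (fun Δ₁ h₁ θ₁ => ((KG 𝓑 ⋙ FY).map (SimplexCategory.const Δ₁ ⦋0⦌ 0).op).app (op U)
        (pt ((θ₁.toOrderHom 0 : Fin _) : ℕ)))
      (by
        intro Δ₁ Δ₂ h₁ h₂ θ₁ β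
        have e0 : β.toOrderHom 0 = 0 := by
          apply Fin.ext
          have h3 := (β.toOrderHom 0).isLt
          have h4 : ((0 : Fin (Δ₁.len + 1)) : ℕ) = 0 := rfl
          omega
        have e1 : ((β ≫ θ₁).toOrderHom 0 : Fin _).val = (θ₁.toOrderHom 0 : Fin _).val := by
          show (θ₁.toOrderHom (β.toOrderHom 0)).val = _
          rw [e0]
        have e2 : (SimplexCategory.const Δ₁ ⦋0⦌ 0).op ≫ β.op =
            (SimplexCategory.const Δ₂ ⦋0⦌ 0).op := by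
          rw [← op_comp]
          exact congrArg Quiver.Hom.op (SimplexCategory.isTerminalZero.hom_ext _ _)
        show ((KG 𝓑 ⋙ FY).map β.op).app (op U)
          (((KG 𝓑 ⋙ FY).map (SimplexCategory.const Δ₁ ⦋0⦌ 0).op).app (op U) (pt _)) =
          ((KG 𝓑 ⋙ FY).map (SimplexCategory.const Δ₂ ⦋0⦌ 0).op).app (op U) (pt _)
        rw [Pcomp, e2, e1])
    have c1 : ∀ y : ((KG 𝓑 ⋙ FY).obj (op ⦋0⦌)).obj (op U),
        ((KG 𝓑 ⋙ FY).map (SimplexCategory.const ⦋0⦌ ⦋0⦌ 0).op).app (op U) y = y := by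
      intro y
      rw [SimplexCategory.const_eq_id, op_id, (KG 𝓑 ⋙ FY).map_id]
      rfl
    have hv1 : ((SimplexCategory.δ (1 : Fin 2)).toOrderHom 0 : Fin _).val = 0 := rfl
    have hv0 : ((SimplexCategory.δ (0 : Fin 2)).toOrderHom 0 : Fin _).val = 1 := rfl
    have m1 := ht ⦋0⦌ (Nat.le_refl 0) (SimplexCategory.δ (1 : Fin 2))
    have m0 := ht ⦋0⦌ (Nat.le_refl 0) (SimplexCategory.δ (0 : Fin 2))
    have key : ∃ t : (FY.obj ((KG 𝓑).obj (op ⦋0 + 1⦌))).obj (op V'),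
        (prod.lift (FY.map ((KG 𝓑).δ (1 : Fin 2))) (FY.map ((KG 𝓑).δ (0 : Fin 2)))).app
          (op V') t =
        (FY.obj ((KG 𝓑).obj (op ⦋0⦌)) ⨯ FY.obj ((KG 𝓑).obj (op ⦋0⦌))).map b'.op x := by
      refine ⟨t, ?_⟩
      refine prod_sec_ext (op V') _ _ ?_ ?_
      · have l1 := types_congr_hom (congr_app (prod.lift_fst (FY.map ((KG 𝓑).δ (1 : Fin 2)))
          (FY.map ((KG 𝓑).δ (0 : Fin 2)))) (op V')) t
        have r1 := NatTrans.naturality_apply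
          (prod.fst : FY.obj ((KG 𝓑).obj (op ⦋0⦌)) ⨯ FY.obj ((KG 𝓑).obj (op ⦋0⦌)) ⟶
            FY.obj ((KG 𝓑).obj (op ⦋0⦌))) b'.op x
        refine l1.trans (m1.trans (Eq.trans ?_ r1.symm))
        exact congrArg (((KG 𝓑 ⋙ FY).obj (op ⦋0⦌)).map b'.op)
          ((c1 _).trans ((congrArg pt hv1).trans hpt0))
      · have l0 := types_congr_hom (congr_app (prod.lift_snd (FY.map ((KG 𝓑).δ (1 : Fin 2)))
          (FY.map ((KG 𝓑).δ (0 : Fin 2)))) (op V')) t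
        have r0 := NatTrans.naturality_apply
          (prod.snd : FY.obj ((KG 𝓑).obj (op ⦋0⦌)) ⨯ FY.obj ((KG 𝓑).obj (op ⦋0⦌)) ⟶
            FY.obj ((KG 𝓑).obj (op ⦋0⦌))) b'.op x
        refine l0.trans (m0.trans (Eq.trans ?_ r0.symm))
        exact congrArg (((KG 𝓑 ⋙ FY).obj (op ⦋0⦌)).map b'.op)
          ((c1 _).trans ((congrArg pt hv0).trans hpt1))
    have h3 : (Presheaf.imageSieve
        (prod.lift (FY.map ((KG 𝓑).δ (1 : Fin 2))) (FY.map ((KG 𝓑).δ (0 : Fin 2)))) x).arrows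
        (a ≫ b') :=
      Sieve.downward_closed (Presheaf.imageSieve
        (prod.lift (FY.map ((KG 𝓑).δ (1 : Fin 2))) (FY.map ((KG 𝓑).δ (0 : Fin 2)))) x) key a
    rw [hab] at h3
    exact h3

theorem exists_hypercoveringSite_gen (hcov : CovBy 𝓑 JD)
    [∀ (n : ℕ) (F : (SimplexCategory.Truncated n)ᵒᵖ ⥤ FormalCoproduct.{u} D),
      (SimplexCategory.Truncated.inclusion n).op.HasRightKanExtension F] :
    Hyper.IsHypercoveringSite JD (KG 𝓑) ∧
      ∀ (n : ℕ) (i : ((KG 𝓑).obj (op ⦋n⦌)).I), ((KG 𝓑).obj (op ⦋n⦌)).obj i ∈ 𝓑 := by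
  refine And.intro (And.intro (KG_terminal_locSurj 𝓑 JD hcov)
    (And.intro (KG_prod_locSurj 𝓑 JD hcov) (fun n hn => ?_))) (fun n i => i.mem _ _)
  exact FYmap_unit_locSurj JD (KG 𝓑) n (KG_unit_locSurj 𝓑 JD hcov n)

end Main3

section OverSite

variable {C : Type u} [SmallCategory C] (J : GrothendieckTopology C) (B : Set C) (X : C)

/-- The class of objects over `X` whose source lies in `B`. -/
def overClass : Set (Over X) := {A | A.left ∈ B}

lemma covBy_of_families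
    (h1 : ∀ U : C, ∃ (ι : Type u) (V : ι → C) (f : ∀ i, V i ⟶ U),
      Sieve.ofArrows V f ∈ J U ∧ ∀ i, V i ∈ B) : CovBy B J := by
  intro U
  obtain ⟨ι, Yf, f, hc, hY⟩ := h1 U
  refine ⟨Sieve.ofArrows Yf f, hc, ?_⟩
  intro V g hg
  obtain ⟨W, a, b, ⟨i⟩, hab⟩ := hg
  exact ⟨Yf i, a, f i, hY i, hab⟩

lemma covBy_over
    (h1 : ∀ U : C, ∃ (ι : Type u) (V : ι → C) (f : ∀ i, V i ⟶ U),
      Sieve.ofArrows V f ∈ J U ∧ ∀ i, V i ∈ B) : CovBy (overClass B X) (J.over X) := by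
  intro U
  obtain ⟨ι, V, f, hcov, hV⟩ := h1 U.left
  refine ⟨(Sieve.overEquiv U).symm (Sieve.ofArrows V f),
    J.overEquiv_symm_mem_over U _ hcov, ?_⟩
  intro A g hg
  rw [Sieve.overEquiv_symm_iff] at hg
  obtain ⟨W, a, b, ⟨i⟩, hab⟩ := hg
  have hw : a ≫ f i ≫ U.hom = A.hom := by
    rw [← Category.assoc, hab]
    exact Over.w g
  have hmem : Over.mk (f i ≫ U.hom) ∈ overClass B X := by
    show (Over.mk (f i ≫ U.hom)).left ∈ B
    exact hV i
  refine ⟨Over.mk (f i ≫ U.hom), Over.homMk a hw, Over.homMk (f i) rfl, hmem, ?_⟩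
  apply Over.OverMorphism.ext
  exact hab

lemma KG_over_cover
    (h1 : ∀ U : C, ∃ (ι : Type u) (V : ι → C) (f : ∀ i, V i ⟶ U),
      Sieve.ofArrows V f ∈ J U ∧ ∀ i, V i ∈ B) :
    Sieve.ofArrows (fun i => (((KG (overClass B X)).obj (op ⦋0⦌)).obj i).left)
      (fun i => (((KG (overClass B X)).obj (op ⦋0⦌)).obj i).hom) ∈ J X := by
  obtain ⟨ι, V, f, hcov, hV⟩ := h1 X
  refine J.superset_covering ?_ hcov
  intro Z g hg
  obtain ⟨W, a, b, ⟨i⟩, hab⟩ := hg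
  have hmem : Over.mk (f i) ∈ overClass B X := by
    show (Over.mk (f i)).left ∈ B
    exact hV i
  have h6 := Sieve.ofArrows_mk
    (fun i => (((KG (overClass B X)).obj (op ⦋0⦌)).obj i).left)
    (fun i => (((KG (overClass B X)).obj (op ⦋0⦌)).obj i).hom)
    (Lab.const (overClass B X) (Over.mk (f i)) hmem ⦋0⦌)
  have h7 := Sieve.downward_closed _ h6 a
  rw [← hab]
  exact h7

theorem exists_hypercovering_gen
    (h1 : ∀ U : C, ∃ (ι : Type u) (V : ι → C) (f : ∀ i, V i ⟶ U),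
      Sieve.ofArrows V f ∈ J U ∧ ∀ i, V i ∈ B)
    [∀ (n : ℕ) (F : (SimplexCategory.Truncated n)ᵒᵖ ⥤ FormalCoproduct.{u} (Over X)),
      (SimplexCategory.Truncated.inclusion n).op.HasRightKanExtension F] :
    Hyper.IsHypercovering J X (KG (overClass B X)) ∧
      ∀ (n : ℕ) (i : ((KG (overClass B X)).obj (op ⦋n⦌)).I),
        (((KG (overClass B X)).obj (op ⦋n⦌)).obj i).left ∈ B := by
  refine And.intro (And.intro (KG_over_cover J B X h1) (fun n => ?_)) (fun n i => i.mem _ _)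
  exact isSRCovering_unit_of_locSurj _ (KG (overClass B X)) n
    (KG_unit_locSurj (overClass B X) (J.over X) (covBy_over J B X h1) n)

end OverSite

end Groth.Agent.Lib.Helper6.HyperQI
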