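import Groth.Agent.Lib.Helper6.HyperQI.CoskElem
import Mathlib.AlgebraicTopology.SimplexCategory.Basic
import Mathlib.CategoryTheory.EqToHom

/-!
# Labellings of the simplices of a simplex by objects of a class, and the associated
simplicial semi-representable object
-/

set_option autoImplicit false
set_option linter.unusedSectionVars false
set_option linter.unusedVariables false
set_option linter.unusedSimpArgs false
set_option linter.style.haveILetI false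
set_option maxHeartbeats 800000

noncomputable section

namespace Groth.Agent.Lib.Helper6.HyperQI

open CategoryTheory Limits SimplexCategory Simplicial Opposite SimplicialObject

universe u

section Lab

variable {D : Type u} [SmallCategory D] (𝓑 : Set D)

/-- A contravariant labelling of the simplices of `Δ` by objects of the class `𝓑`. -/
structure Lab (Δ : SimplexCategory) : Type u where
  obj : ∀ Δ' : SimplexCategory, (Δ' ⟶ Δ) → D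
  mem : ∀ (Δ' : SimplexCategory) (α : Δ' ⟶ Δ), obj Δ' α ∈ 𝓑
  res : ∀ {Δ' Δ'' : SimplexCategory} (α : Δ' ⟶ Δ) (β : Δ'' ⟶ Δ') (γ : Δ'' ⟶ Δ),
    β ≫ α = γ → (obj Δ' α ⟶ obj Δ'' γ)
  res_id : ∀ {Δ' : SimplexCategory} (α : Δ' ⟶ Δ),
    res α (𝟙 _) α (Category.id_comp α) = 𝟙 _
  res_comp : ∀ {Δ' Δ'' Δ''' : SimplexCategory} (α : Δ' ⟶ Δ) (β : Δ'' ⟶ Δ') (γ : Δ'' ⟶ Δ)
    (h : β ≫ α = γ) (β' : Δ''' ⟶ Δ'') (γ' : Δ''' ⟶ Δ) (h' : β' ≫ γ = γ'),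
    res α β γ h ≫ res γ β' γ' h' = res α (β' ≫ β) γ' (by rw [Category.assoc, h, h'])

variable {𝓑}

lemma Lab.res_heq {Δ : SimplexCategory} (W : Lab 𝓑 Δ) {Δ' Δ'' : SimplexCategory}
    {α α' : Δ' ⟶ Δ} (hα : α = α') (β : Δ'' ⟶ Δ') {γ γ' : Δ'' ⟶ Δ} (hγ : γ = γ')
    (h : β ≫ α = γ) (h' : β ≫ α' = γ') :
    W.res α β γ h = eqToHom (congrArg (W.obj Δ') hα) ≫ W.res α' β γ' h' ≫
      eqToHom (congrArg (W.obj Δ'') hγ.symm) := by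
  subst hα
  subst hγ
  simp

lemma Lab.obj_eq {Δ : SimplexCategory} {W₁ W₂ : Lab 𝓑 Δ} (h : W₁ = W₂)
    (Δ' : SimplexCategory) (α : Δ' ⟶ Δ) : W₁.obj Δ' α = W₂.obj Δ' α := by
  rw [h]

lemma Lab.res_eq {Δ : SimplexCategory} {W₁ W₂ : Lab 𝓑 Δ} (h : W₁ = W₂)
    {Δ' Δ'' : SimplexCategory} (α : Δ' ⟶ Δ) (β : Δ'' ⟶ Δ') (γ : Δ'' ⟶ Δ) (e : β ≫ α = γ) :
    W₁.res α β γ e = eqToHom (Lab.obj_eq h Δ' α) ≫ W₂.res α β γ e ≫
      eqToHom (Lab.obj_eq h Δ'' γ).symm := by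
  subst h
  simp

lemma Lab.ext' {Δ : SimplexCategory} {W₁ W₂ : Lab 𝓑 Δ}
    (hobj : ∀ (Δ' : SimplexCategory) (α : Δ' ⟶ Δ), W₁.obj Δ' α = W₂.obj Δ' α)
    (hres : ∀ {Δ' Δ'' : SimplexCategory} (α : Δ' ⟶ Δ) (β : Δ'' ⟶ Δ') (γ : Δ'' ⟶ Δ)
      (e : β ≫ α = γ), W₁.res α β γ e = eqToHom (hobj Δ' α) ≫ W₂.res α β γ e ≫
        eqToHom (hobj Δ'' γ).symm) : W₁ = W₂ := by
  obtain ⟨o₁, m₁, r₁, i₁, c₁⟩ := W₁
  obtain ⟨o₂, m₂, r₂, i₂, c₂⟩ := W₂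
  have ho : o₁ = o₂ := by
    funext Δ' α
    exact hobj Δ' α
  subst ho
  have hr : @r₁ = @r₂ := by
    funext Δ' Δ'' α β γ e
    have h := hres α β γ e
    simpa using h
  subst hr
  rfl

variable (𝓑)

/-- Pullback of labellings along a morphism of simplices. -/
def pullL {Δ₁ Δ₂ : SimplexCategory} (θ : Δ₁ ⟶ Δ₂) (W : Lab 𝓑 Δ₂) : Lab 𝓑 Δ₁ where
  obj Δ' α := W.obj Δ' (α ≫ θ)
  mem Δ' α := W.mem Δ' (α ≫ θ)
  res α β γ h := W.res (α ≫ θ) β (γ ≫ θ) (by rw [← h, Category.assoc])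
  res_id α := W.res_id (α ≫ θ)
  res_comp α β γ h β' γ' h' := W.res_comp (α ≫ θ) β (γ ≫ θ) _ β' (γ' ≫ θ) _

lemma pullL_comp {Δ₁ Δ₂ Δ₃ : SimplexCategory} (θ₁ : Δ₁ ⟶ Δ₂) (θ₂ : Δ₂ ⟶ Δ₃) (W : Lab 𝓑 Δ₃) :
    pullL 𝓑 (θ₁ ≫ θ₂) W = pullL 𝓑 θ₁ (pullL 𝓑 θ₂ W) := rfl

lemma pullL_id {Δ : SimplexCategory} (W : Lab 𝓑 Δ) : pullL 𝓑 (𝟙 Δ) W = W := by
  refine Lab.ext' (fun Δ' α => congrArg (W.obj Δ') (Category.comp_id α)) ?_
  intro Δ' Δ'' α β γ e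
  exact W.res_heq (Category.comp_id α) β (Category.comp_id γ) _ e

/-- The simplicial semi-representable object of labellings. -/
def KG : SimplicialObject (FormalCoproduct.{u} D) where
  obj Δ := ⟨Lab 𝓑 Δ.unop, fun W => W.obj Δ.unop (𝟙 _)⟩
  map {Δ Δ'} θ :=
    { f := pullL 𝓑 θ.unop
      φ := fun W => W.res (𝟙 _) θ.unop (𝟙 _ ≫ θ.unop)
        (by rw [Category.comp_id, Category.id_comp]) }
  map_id Δ := by
    refine FormalCoproduct.hom_ext (funext fun W => pullL_id 𝓑 W) (fun W => ?_)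
    have h1 := W.res_heq (rfl : 𝟙 Δ.unop = 𝟙 Δ.unop) (𝟙 Δ.unop)
      (Category.id_comp (𝟙 Δ.unop)) rfl
      (Category.id_comp (𝟙 Δ.unop))
    rw [W.res_id] at h1
    show W.res (𝟙 _) (𝟙 Δ.unop) (𝟙 _ ≫ 𝟙 Δ.unop) _ ≫ eqToHom _ = 𝟙 _
    rw [h1]
    simp
  map_comp f g := by
    refine FormalCoproduct.hom_ext (funext fun W => pullL_comp 𝓑 g.unop f.unop W) (fun W => ?_)
    have h1 := W.res_comp (𝟙 _) f.unop (𝟙 _ ≫ f.unop)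
      (by rw [Category.comp_id, Category.id_comp]) g.unop ((𝟙 _ ≫ g.unop) ≫ f.unop) rfl
    have h2 : eqToHom (by rfl : W.obj _ ((𝟙 _ ≫ g.unop) ≫ f.unop) =
        W.obj _ ((𝟙 _ ≫ g.unop) ≫ f.unop)) = 𝟙 _ := rfl
    exact (Category.comp_id _).trans h1.symm

end Lab

end Groth.Agent.Lib.Helper6.HyperQI
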