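import Groth.Agent.Lib.Helper6.HyperQI.CechHom
import Mathlib.CategoryTheory.Sites.ConstantSheaf
import Mathlib.CategoryTheory.Sites.Abelian
import Mathlib.CategoryTheory.Adjunction.Additive
import Mathlib.CategoryTheory.Preadditive.Yoneda.Basic
import Mathlib.Algebra.Category.Grp.Limits
import Mathlib.Algebra.Category.Grp.Preadditive

/-!
# Morphisms from the constant sheaf `ℤ` are global sections
-/

set_option autoImplicit false
set_option linter.unusedSectionVars false
set_option linter.unusedVariables false
set_option linter.unusedSimpArgs false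
set_option linter.style.haveILetI false
set_option maxHeartbeats 800000

noncomputable section

namespace Groth.Agent.Lib.Helper6.HyperQI

open CategoryTheory Limits Opposite

universe u

/-- Morphisms out of `ℤ` are elements. -/
def evalOne (G : AddCommGrpCat.{u}) : (AddCommGrpCat.of (ULift.{u} ℤ) ⟶ G) ≃+ G where
  toFun f := f (ULift.up 1)
  invFun g := AddCommGrpCat.ofHom ((zmultiplesHom G g).comp AddEquiv.ulift.toAddMonoidHom)
  left_inv f := by
    ext x
    obtain ⟨n⟩ := x
    show n • f (ULift.up 1) = f (ULift.up n)
    rw [← map_zsmul]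
    congr 1
    apply ULift.ext
    simp
  right_inv g := by
    show (1 : ℤ) • g = g
    exact one_zsmul g
  map_add' f g := rfl

section

variable {C : Type u} [SmallCategory C]

/-- Morphisms from a constant presheaf are morphisms to the limit, additively. -/
def constLimAddEquiv (A : AddCommGrpCat.{u}) (P : Cᵒᵖ ⥤ AddCommGrpCat.{u}) :
    ((Functor.const Cᵒᵖ).obj A ⟶ P) ≃+ (A ⟶ limit P) where
  toFun f := limit.lift P ⟨A, f⟩
  invFun g :=
    { app := fun j => g ≫ limit.π P j
      naturality := by
        intro j j' h
        simp [limit.w] }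
  left_inv f := by
    ext j
    simp
  right_inv g := by
    apply limit.hom_ext
    intro j
    simp
  map_add' f g := by
    apply limit.hom_ext
    intro j
    simp [Preadditive.add_comp]

variable (J : GrothendieckTopology C) (I : Sheaf J AddCommGrpCat.{u})

/-- `Hom(ℤ_J, I)` is the group of global sections of `I`. -/
def globalSectionsIso :
    (preadditiveYoneda.obj I).obj
      (op ((constantSheaf J AddCommGrpCat.{u}).obj (AddCommGrpCat.of (ULift.{u} ℤ)))) ≅
      limit I.obj :=
  AddEquiv.toAddCommGrpIso
    (((sheafificationAdjunction J AddCommGrpCat.{u}).homAddEquiv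
        ((Functor.const Cᵒᵖ).obj (AddCommGrpCat.of (ULift.{u} ℤ))) I).trans
      ((constLimAddEquiv (AddCommGrpCat.of (ULift.{u} ℤ)) I.obj).trans (evalOne (limit I.obj))))

end

end Groth.Agent.Lib.Helper6.HyperQI
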