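import Groth.Agent.Lib.Helper6.HyperQI.GlobalSec
import Mathlib.Algebra.Category.Grp.AB
import Mathlib.CategoryTheory.Sites.Pullback
import Mathlib.CategoryTheory.Sites.Over
import Mathlib.CategoryTheory.Preadditive.Injective.Basic

/-!
# Extension by zero from `Over X` and injectivity of the restriction of an injective sheaf
-/

set_option autoImplicit false
set_option linter.unusedSectionVars false
set_option linter.unusedVariables false
set_option linter.unusedSimpArgs false
set_option linter.style.haveILetI false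
set_option maxHeartbeats 800000

noncomputable section

namespace Groth.Agent.Lib.Helper6.HyperQI

open CategoryTheory Limits Opposite

universe u

section JS

variable {C : Type u} [SmallCategory C] (X : C)

/-- The formal coproduct of all structures of object over `X` on `U`. -/
def ttObj (U : C) : FormalCoproduct.{u} (Over X)ᵒᵖ := ⟨U ⟶ X, fun x => op (Over.mk x)⟩

/-- Functoriality of `ttObj`. -/
def ttMap {U V : C} (g : V ⟶ U) : ttObj X U ⟶ ttObj X V :=
  ⟨fun x => g ≫ x, fun x => (Over.homMk g : Over.mk (g ≫ x) ⟶ Over.mk x).op⟩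

/-- The functor `U ↦ ∐_{x : U ⟶ X} (U, x)`. -/
def tt : Cᵒᵖ ⥤ FormalCoproduct.{u} (Over X)ᵒᵖ where
  obj U := ttObj X U.unop
  map g := ttMap X g.unop
  map_id U := by
    refine FormalCoproduct.hom_ext (funext fun x => Category.id_comp x) (fun x => ?_)
    apply Quiver.Hom.unop_inj
    ext
    simp [ttMap, ttObj]
  map_comp g h := by
    refine FormalCoproduct.hom_ext (funext fun x => Category.assoc _ _ x) (fun x => ?_)
    apply Quiver.Hom.unop_inj
    ext
    simp [ttMap, ttObj]

/-- Extension by zero of abelian presheaves from `Over X` to `C`. -/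
def jsh : ((Over X)ᵒᵖ ⥤ AddCommGrpCat.{u}) ⥤ (Cᵒᵖ ⥤ AddCommGrpCat.{u}) :=
  FormalCoproduct.eval (Over X)ᵒᵖ AddCommGrpCat.{u} ⋙ (Functor.whiskeringLeft _ _ _).obj (tt X)

/-- The family of values of `G` on the objects `(U, x)`. -/
abbrev gfam (G : (Over X)ᵒᵖ ⥤ AddCommGrpCat.{u}) (U : C) : (U ⟶ X) → AddCommGrpCat.{u} :=
  fun x => G.obj (op (Over.mk x))

/-- The inclusion of the summand indexed by `x`. -/
def jι (G : (Over X)ᵒᵖ ⥤ AddCommGrpCat.{u}) {U : C} (x : U ⟶ X) :
    G.obj (op (Over.mk x)) ⟶ ((jsh X).obj G).obj (op U) :=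
  Sigma.ι (gfam X G U) x

lemma jsh_hom_ext (G : (Over X)ᵒᵖ ⥤ AddCommGrpCat.{u}) {U : C} {Z : AddCommGrpCat.{u}}
    (a b : ((jsh X).obj G).obj (op U) ⟶ Z) (h : ∀ x : U ⟶ X, jι X G x ≫ a = jι X G x ≫ b) :
    a = b :=
  Sigma.hom_ext _ _ h

/-- Morphisms out of `(jsh G)(U)`. -/
def jdesc (G : (Over X)ᵒᵖ ⥤ AddCommGrpCat.{u}) {U : C} {Z : AddCommGrpCat.{u}}
    (p : ∀ x : U ⟶ X, G.obj (op (Over.mk x)) ⟶ Z) : ((jsh X).obj G).obj (op U) ⟶ Z :=
  Sigma.desc p

@[reassoc (attr := simp)]
lemma jι_desc (G : (Over X)ᵒᵖ ⥤ AddCommGrpCat.{u}) {U : C} {Z : AddCommGrpCat.{u}}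
    (p : ∀ x : U ⟶ X, G.obj (op (Over.mk x)) ⟶ Z) (x : U ⟶ X) :
    jι X G x ≫ jdesc X G p = p x :=
  Sigma.ι_desc p x

@[reassoc]
lemma jι_map (G : (Over X)ᵒᵖ ⥤ AddCommGrpCat.{u}) {U V : C} (g : V ⟶ U) (x : U ⟶ X) :
    jι X G x ≫ ((jsh X).obj G).map g.op =
      G.map (Over.homMk g : Over.mk (g ≫ x) ⟶ Over.mk x).op ≫ jι X G (g ≫ x) :=
  Sigma.ι_desc _ x

@[reassoc]
lemma jι_map' (G : (Over X)ᵒᵖ ⥤ AddCommGrpCat.{u}) {U V : C} (g : V ⟶ U) (x : U ⟶ X)
    (y : V ⟶ X) (w : g ≫ x = y) :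
    jι X G x ≫ ((jsh X).obj G).map g.op =
      G.map (Over.homMk g w : Over.mk y ⟶ Over.mk x).op ≫ jι X G y := by
  subst w
  exact jι_map X G g x

@[reassoc]
lemma jι_nat {G G' : (Over X)ᵒᵖ ⥤ AddCommGrpCat.{u}} (α : G ⟶ G') {U : C} (x : U ⟶ X) :
    jι X G x ≫ ((jsh X).map α).app (op U) = α.app (op (Over.mk x)) ≫ jι X G' x :=
  Sigma.ι_map (fun x : U ⟶ X => α.app (op (Over.mk x))) x

/-- The adjunction between extension by zero and restriction, on hom-sets. -/
def jshHomEquiv (G : (Over X)ᵒᵖ ⥤ AddCommGrpCat.{u}) (P : Cᵒᵖ ⥤ AddCommGrpCat.{u}) :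
    ((jsh X).obj G ⟶ P) ≃ (G ⟶ (Over.forget X).op ⋙ P) where
  toFun ψ :=
    { app := fun Y => jι X G Y.unop.hom ≫ ψ.app (op Y.unop.left)
      naturality := fun Y Y' h => by
        have h1 := jι_map'_assoc X G h.unop.left Y.unop.hom Y'.unop.hom (Over.w h.unop)
          (ψ.app (op Y'.unop.left))
        have h2 := ψ.naturality h.unop.left.op
        show G.map h ≫ jι X G Y'.unop.hom ≫ ψ.app (op Y'.unop.left) =
          (jι X G Y.unop.hom ≫ ψ.app (op Y.unop.left)) ≫ P.map h.unop.left.op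
        rw [Category.assoc, ← h2, h1]
        rfl }
  invFun φ :=
    { app := fun U => jdesc X G (fun x => φ.app (op (Over.mk x)))
      naturality := fun U V g => by
        refine jsh_hom_ext X G _ _ (fun x => ?_)
        have h1 := jι_map_assoc X G g.unop x
          (jdesc X G (Z := P.obj V) (fun y => φ.app (op (Over.mk y))))
        have h2 := φ.naturality (Over.homMk g.unop : Over.mk (g.unop ≫ x) ⟶ Over.mk x).op
        show jι X G x ≫ ((jsh X).obj G).map g.unop.op ≫ _ = jι X G x ≫ _ ≫ P.map g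
        rw [h1, jι_desc, jι_desc_assoc]
        exact h2 }
  left_inv ψ := by
    ext U : 2
    refine jsh_hom_ext X G _ _ (fun x => ?_)
    exact jι_desc X G _ x
  right_inv φ := by
    ext Y : 2
    exact jι_desc X G _ Y.unop.hom

/-- Extension by zero is left adjoint to restriction. -/
def jshAdj : jsh X ⊣ (Functor.whiskeringLeft (Over X)ᵒᵖ Cᵒᵖ AddCommGrpCat.{u}).obj
    (Over.forget X).op :=
  Adjunction.mkOfHomEquiv
    { homEquiv := jshHomEquiv X
      homEquiv_naturality_left_symm := fun {G' G P} α φ => by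
        ext U : 2
        refine jsh_hom_ext X G' _ _ (fun x => ?_)
        show jι X G' x ≫ jdesc X G' _ = jι X G' x ≫ ((jsh X).map α).app _ ≫ jdesc X G _
        rw [jι_desc, jι_nat_assoc, jι_desc]
        rfl
      homEquiv_naturality_right := fun {G P P'} ψ β => by
        ext Y : 2
        show jι X G Y.unop.hom ≫ (ψ ≫ β).app _ = (jι X G Y.unop.hom ≫ ψ.app _) ≫ β.app _
        rw [NatTrans.comp_app, Category.assoc] }

instance jsh_preservesMono : (jsh X).PreservesMonomorphisms where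
  preserves {G G'} α hα := by
    haveI : ∀ Y, Mono (α.app Y) := (NatTrans.mono_iff_mono_app α).1 hα
    haveI : ∀ U, Mono (((jsh X).map α).app U) := fun U => by
      show Mono (Limits.Sigma.map (fun x : U.unop ⟶ X => α.app (op (Over.mk x))))
      infer_instance
    exact NatTrans.mono_of_mono_app _

end JS

section Sh

variable {C : Type u} [SmallCategory C] (J : GrothendieckTopology C) (X : C)

/-- Extension by zero of abelian sheaves is left adjoint to restriction to `Over X`. -/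
def jshSheafAdj :
    sheafToPresheaf (J.over X) AddCommGrpCat.{u} ⋙ jsh X ⋙ presheafToSheaf J AddCommGrpCat.{u} ⊣
      (Over.forget X).sheafPushforwardContinuous AddCommGrpCat.{u} (J.over X) J :=
  ((jshAdj X).comp (sheafificationAdjunction J AddCommGrpCat.{u})).restrictFullyFaithful
    (fullyFaithfulSheafToPresheaf (J.over X) AddCommGrpCat.{u}) (Functor.FullyFaithful.id _)
    (Iso.refl _) (Iso.refl _)

instance injective_over (I : Sheaf J AddCommGrpCat.{u}) [Injective I] : Injective (I.over X) :=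
  Injective.injective_of_adjoint (jshSheafAdj J X) I

end Sh

end Groth.Agent.Lib.Helper6.HyperQI
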