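import Mathlib.AlgebraicTopology.SimplicialSet.Degenerate
import Mathlib.AlgebraicTopology.SimplicialObject.Coskeletal
import Mathlib.AlgebraicTopology.SimplicialObject.ChainHomotopy
import Groth.Agent.Lib.Helper6.CoskHtpy.Main

/-!
# Sections of trivial-fibration-like maps of coskeletal simplicial sets

Let `p : A ⟶ B` be a map of simplicial sets which is bijective in degrees `< n` and surjective in
degree `n`, with `A` `n`-coskeletal and `B` a degreewise subobject of an `n`-coskeletal simplicial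
set.  Then `p` has a simplicial section `s` with `p ≫ s` homotopic to the identity.  The section is
built on the `n`-truncation using the Eilenberg–Zilber decomposition of degenerate simplices.
-/

set_option autoImplicit false
set_option linter.unusedSectionVars false
set_option linter.unusedVariables false
set_option linter.unusedSimpArgs false
set_option linter.style.haveILetI false

noncomputable section

namespace Groth.Agent.Lib.Helper6.HyperQI

open CategoryTheory Limits SimplexCategory Simplicial Opposite SimplicialObject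

universe v w u

section EZ

variable {A B : SimplicialObject (Type u)} (p : A ⟶ B) (n : ℕ)
  (hs : ∀ j, j ≤ n → Function.Surjective (p.app (op ⦋j⦌)))
  (hi : ∀ j, j < n → Function.Injective (p.app (op ⦋j⦌)))

/-- A chosen preimage. -/
def pre (j : ℕ) (hj : j ≤ n) (y : B _⦋j⦌) : A _⦋j⦌ := Classical.choose (hs j hj y)

lemma p_pre (j : ℕ) (hj : j ≤ n) (y : B _⦋j⦌) : p.app (op ⦋j⦌) (pre p n hs j hj y) = y :=
  Classical.choose_spec (hs j hj y)

/-- Dimension of the nondegenerate simplex underlying `y`. -/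
def dm {j : ℕ} (y : B _⦋j⦌) : ℕ := (SSet.exists_nonDegenerate B y).choose

/-- The degeneracy operator of the Eilenberg–Zilber decomposition of `y`. -/
def de {j : ℕ} (y : B _⦋j⦌) : ⦋j⦌ ⟶ ⦋dm y⦌ := (SSet.exists_nonDegenerate B y).choose_spec.choose

instance de_epi {j : ℕ} (y : B _⦋j⦌) : Epi (de y) :=
  (SSet.exists_nonDegenerate B y).choose_spec.choose_spec.choose

/-- The nondegenerate simplex underlying `y`. -/
def dv {j : ℕ} (y : B _⦋j⦌) : SSet.nonDegenerate B (dm y) :=
  (SSet.exists_nonDegenerate B y).choose_spec.choose_spec.choose_spec.choose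

lemma d_spec {j : ℕ} (y : B _⦋j⦌) : y = B.map (de y).op (dv y).1 :=
  (SSet.exists_nonDegenerate B y).choose_spec.choose_spec.choose_spec.choose_spec

open Classical in
/-- The truncated section. -/
def t (j : ℕ) (hj : j ≤ n) (y : B _⦋j⦌) : A _⦋j⦌ :=
  if h : dm y < n then A.map (de y).op (pre p n hs (dm y) h.le (dv y).1) else pre p n hs j hj y

lemma p_t (j : ℕ) (hj : j ≤ n) (y : B _⦋j⦌) : p.app (op ⦋j⦌) (t p n hs j hj y) = y := by
  unfold t
  split_ifs with h
  · rw [NatTrans.naturality_apply, p_pre]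
    exact (d_spec y).symm
  · exact p_pre p n hs j hj y

include hi in
lemma t_nat_lt (j k : ℕ) (hj : j < n) (hk : k ≤ n) (g : ⦋j⦌ ⟶ ⦋k⦌) (z : B _⦋k⦌) :
    t p n hs j hj.le (B.map g.op z) = A.map g.op (t p n hs k hk z) := by
  apply hi j hj
  rw [p_t, NatTrans.naturality_apply, p_t]

lemma ez_aux (y : B _⦋n⦌) (m' : ℕ) (e' : ⦋n⦌ ⟶ ⦋m'⦌) [Epi e'] (v' : SSet.nonDegenerate B m')
    (hy' : y = B.map e'.op v'.1) (m : ℕ) (e : ⦋n⦌ ⟶ ⦋m⦌) [Epi e] (v : SSet.nonDegenerate B m)
    (hy : y = B.map e.op v.1) (hm : m < n) :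
    ∃ h' : m' < n, A.map e'.op (pre p n hs m' h'.le v'.1) =
      A.map e.op (pre p n hs m hm.le v.1) := by
  have h1 : m' = m := SSet.unique_nonDegenerate_dim B y e' v' hy' e v hy
  subst h1
  have h2 : v' = v := SSet.unique_nonDegenerate_simplex B y e' v' hy' e v hy
  subst h2
  have h3 : e' = e := SSet.unique_nonDegenerate_map B y e' v' hy' e v' hy
  subst h3
  exact ⟨hm, rfl⟩

lemma t_eq_of_decomp (y : B _⦋n⦌) (m : ℕ) (e : ⦋n⦌ ⟶ ⦋m⦌) [Epi e] (v : SSet.nonDegenerate B m)
    (hy : y = B.map e.op v.1) (hm : m < n) :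
    t p n hs n le_rfl y = A.map e.op (pre p n hs m hm.le v.1) := by
  obtain ⟨h', heq⟩ := ez_aux p n hs y (dm y) (de y) (dv y) (d_spec y) m e v hy hm
  unfold t
  rw [dif_pos h']
  exact heq

lemma exists_epi_mono_fac {j k : ℕ} (g : ⦋j⦌ ⟶ ⦋k⦌) :
    ∃ (q : ℕ) (e0 : ⦋j⦌ ⟶ ⦋q⦌) (i0 : ⦋q⦌ ⟶ ⦋k⦌), Epi e0 ∧ Mono i0 ∧ e0 ≫ i0 = g :=
  ⟨(image g).len, factorThruImage g, image.ι g, inferInstance, inferInstance, image.fac g⟩

include hi in
lemma t_nat_ez (k : ℕ) (hk : k < n) (g : ⦋n⦌ ⟶ ⦋k⦌) (z : B _⦋k⦌) :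
    t p n hs n le_rfl (B.map g.op z) = A.map g.op (t p n hs k hk.le z) := by
  obtain ⟨q, e0, i0, he0, hi0, fac⟩ := exists_epi_mono_fac g
  have hqk : q ≤ k := SimplexCategory.len_le_of_mono i0
  have hqn : q < n := lt_of_le_of_lt hqk hk
  obtain ⟨z1, hz1⟩ : ∃ z1 : B _⦋q⦌, z1 = B.map i0.op z := ⟨_, rfl⟩
  obtain ⟨m1, e1, he1, v1, hv1⟩ := SSet.exists_nonDegenerate B z1
  have hm1 : m1 ≤ q := SimplexCategory.le_of_epi e1
  have hy : B.map g.op z = B.map (e0 ≫ e1).op v1.1 := by
    rw [← fac, op_comp, op_comp, Functor.map_comp_apply, Functor.map_comp_apply, ← hz1, hv1]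
  haveI : Epi (e0 ≫ e1) := epi_comp _ _
  rw [t_eq_of_decomp p n hs (B.map g.op z) m1 (e0 ≫ e1) v1 hy (lt_of_le_of_lt hm1 hqn)]
  rw [← fac, op_comp, op_comp, Functor.map_comp_apply, Functor.map_comp_apply]
  congr 1
  apply hi q hqn
  rw [NatTrans.naturality_apply, NatTrans.naturality_apply, p_pre, p_t, ← hv1, hz1]

include hi in
lemma t_nat_top (k : ℕ) (hk : k ≤ n) (g : ⦋n⦌ ⟶ ⦋k⦌) (z : B _⦋k⦌) :
    t p n hs n le_rfl (B.map g.op z) = A.map g.op (t p n hs k hk z) := by
  rcases hk.lt_or_eq with hkn | hkn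
  · exact t_nat_ez p n hs hi k hkn g z
  · subst hkn
    by_cases hg : Mono g
    · obtain rfl : g = 𝟙 _ := SimplexCategory.eq_id_of_mono g
      simp
    · obtain ⟨q, e0, i0, he0, hi0, fac⟩ := exists_epi_mono_fac g
      have hq : q ≤ k := SimplexCategory.len_le_of_mono i0
      have hqn : q < k := by
        rcases hq.lt_or_eq with h | h
        · exact h
        · exfalso
          subst h
          apply hg
          obtain rfl : e0 = 𝟙 _ := SimplexCategory.eq_id_of_epi e0
          rw [← fac, Category.id_comp]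
          exact hi0
      rw [← fac, op_comp, Functor.map_comp_apply, Functor.map_comp_apply,
        t_nat_ez p k hs hi q hqn e0, t_nat_lt p k hs hi q k hqn le_rfl i0]

include hi in
lemma t_nat (j k : ℕ) (hj : j ≤ n) (hk : k ≤ n) (g : ⦋j⦌ ⟶ ⦋k⦌) (z : B _⦋k⦌) :
    t p n hs j hj (B.map g.op z) = A.map g.op (t p n hs k hk z) := by
  rcases hj.lt_or_eq with hjn | hjn
  · exact t_nat_lt p n hs hi j k hjn hk g z
  · subst hjn
    exact t_nat_top p j hs hi k hk g z

end EZ

section Homotopy

/-- Two maps into an `n`-coskeletal simplicial object which agree in degrees `< n` are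
homotopic. -/
theorem homotopy_of_isCoskeletal {E : Type w} [Category.{v} E] [HasFiniteLimits E] (n : ℕ)
    [∀ (F : (SimplexCategory.Truncated n)ᵒᵖ ⥤ E),
      (SimplexCategory.Truncated.inclusion n).op.HasRightKanExtension F]
    {X Y : SimplicialObject E} [Y.IsCoskeletal n] (a b : X ⟶ Y)
    (h : ∀ j : ℕ, j < n → a.app (op ⦋j⦌) = b.app (op ⦋j⦌)) :
    Nonempty (SimplicialObject.Homotopy a b) := by
  obtain ⟨H⟩ := CoskHtpy.cosk_homotopy n a b h
  have nat : ∀ c : X ⟶ Y, c = (coskAdj n).unit.app X ≫ (cosk n).map c ≫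
      inv ((coskAdj n).unit.app Y) := by
    intro c
    rw [← Category.assoc, IsIso.eq_comp_inv]
    exact (coskAdj n).unit.naturality c
  have ha := nat a
  have hb := nat b
  rw [ha, hb]
  exact ⟨(H.postcomp _).precomp _⟩

end Homotopy

section Section

variable {A B Bt : SimplicialObject (Type u)} (p : A ⟶ B) (ι : B ⟶ Bt) (n : ℕ)
  [A.IsCoskeletal n] [Bt.IsCoskeletal n]
  (hs : ∀ j, j ≤ n → Function.Surjective (p.app (op ⦋j⦌)))
  (hi : ∀ j, j < n → Function.Injective (p.app (op ⦋j⦌)))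
  (hι : ∀ Δ : SimplexCategoryᵒᵖ, Function.Injective (ι.app Δ))

/-- The truncated section as a natural transformation. -/
def sTr : (Truncated.inclusion n).op ⋙ B ⟶ (Truncated.inclusion n).op ⋙ A where
  app X := ↾(t p n hs X.unop.obj.len X.unop.property)
  naturality X Y f := by
    ext z
    exact t_nat p n hs hi _ _ _ _ f.unop.hom z

/-- The simplicial section. -/
def sMap : B ⟶ A :=
  A.liftOfIsRightKanExtension (𝟙 ((Truncated.inclusion n).op ⋙ A)) B (sTr p n hs hi)

lemma sMap_app (j : ℕ) (hj : j ≤ n) (z : B _⦋j⦌) :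
    (sMap p n hs hi).app (op ⦋j⦌) z = t p n hs j hj z := by
  have := A.liftOfIsRightKanExtension_fac_app (𝟙 ((Truncated.inclusion n).op ⋙ A)) B
    (sTr p n hs hi) (op ⟨⦋j⦌, hj⟩)
  exact types_congr_hom ((Category.comp_id _).symm.trans this) z

include hs hi hι in
theorem exists_section :
    ∃ s : B ⟶ A, s ≫ p = 𝟙 B ∧ Nonempty (SimplicialObject.Homotopy (p ≫ s) (𝟙 A)) := by
  refine ⟨sMap p n hs hi, ?_, ?_⟩
  · haveI : ∀ Δ, Mono (ι.app Δ) := fun Δ => (mono_iff_injective _).2 (hι Δ)
    haveI : Mono ι := NatTrans.mono_of_mono_app ι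
    rw [← cancel_mono ι]
    apply Bt.hom_ext_of_isRightKanExtension (𝟙 ((Truncated.inclusion n).op ⋙ Bt))
    ext X z
    have h1 : (sMap p n hs hi).app (op X.unop.obj) z =
        t p n hs X.unop.obj.len X.unop.property z :=
      sMap_app p n hs hi _ X.unop.property z
    have h2 := p_t p n hs X.unop.obj.len X.unop.property z
    show ι.app (op X.unop.obj) (p.app (op X.unop.obj)
      ((sMap p n hs hi).app (op X.unop.obj) z)) = ι.app (op X.unop.obj) z
    rw [h1]
    exact congrArg _ h2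
  · apply homotopy_of_isCoskeletal n
    intro j hj
    ext x
    show (sMap p n hs hi).app (op ⦋j⦌) (p.app (op ⦋j⦌) x) = x
    rw [sMap_app p n hs hi j hj.le]
    apply hi j hj
    rw [p_t]

end Section

section Homology

open AlgebraicTopology in
/-- A simplicial map with a section up to homotopy induces isomorphisms on the homology of
the alternating face map complexes, after applying any functor to a category with homology. -/
theorem isIso_homologyMap_of_section {D : Type*} [Category D] [Preadditive D]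
    [CategoryWithHomology D] (F : Type u ⥤ D) {A B : SimplicialObject (Type u)} (p : A ⟶ B)
    (s : B ⟶ A) (h1 : s ≫ p = 𝟙 B)
    (h2 : Nonempty (SimplicialObject.Homotopy (p ≫ s) (𝟙 A))) (i : ℕ) :
    IsIso (HomologicalComplex.homologyMap
      ((alternatingFaceMapComplex D).map
        (((SimplicialObject.whiskering (Type u) D).obj F).map p)) i) := by
  obtain ⟨H⟩ := h2
  let W := (SimplicialObject.whiskering (Type u) D).obj F ⋙ alternatingFaceMapComplex D ⋙
    HomologicalComplex.homologyFunctor D (ComplexShape.down ℕ) i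
  have e1 : W.map (p ≫ s) = W.map (𝟙 A) := (H.whiskerRight F).map_homology_eq i
  have hps : W.map p ≫ W.map s = 𝟙 _ := by rw [← W.map_comp, e1, W.map_id]
  have hsp : W.map s ≫ W.map p = 𝟙 _ := by rw [← W.map_comp, h1, W.map_id]
  have : IsIso (W.map p) := ⟨⟨W.map s, hps, hsp⟩⟩
  exact this

end Homology

end Groth.Agent.Lib.Helper6.HyperQI
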