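import Mathlib.CategoryTheory.Sites.LocallyBijective
import Mathlib.CategoryTheory.Sites.Abelian
import Mathlib.Algebra.Category.Grp.Adjunctions
import Mathlib.CategoryTheory.Adjunction.Whiskering
import Mathlib.CategoryTheory.Functor.KanExtension.Preserves
import Groth.Agent.Lib.Helper6.HyperQI.SSetSec

/-!
# The intermediate simplicial presheaf `K'`

For `f : L ⟶ K` a morphism of simplicial presheaves of sets and `n : ℕ`, `K' ⊆ K` is the simplicial
subpresheaf of those simplices all of whose `n`-dimensional faces/degeneracies lie in the image of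
`f_n`.  `f` factors through `K'`, and `K' ⟶ K` is degreewise injective, and degreewise locally
surjective as soon as `f_n` is locally surjective.
-/

set_option autoImplicit false
set_option linter.unusedSectionVars false
set_option linter.unusedVariables false
set_option linter.unusedSimpArgs false
set_option linter.style.haveILetI false

noncomputable section

namespace Groth.Agent.Lib.Helper6.HyperQI

open CategoryTheory Limits SimplexCategory Simplicial Opposite SimplicialObject

universe u

section Kprime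

variable {C : Type u} [SmallCategory C] {L K : SimplicialObject (Cᵒᵖ ⥤ Type u)} (f : L ⟶ K)
  (n : ℕ)

/-- Membership predicate for `K'`. -/
def InK' (Δ : SimplexCategoryᵒᵖ) (U : Cᵒᵖ) (x : (K.obj Δ).obj U) : Prop :=
  ∀ φ : ⦋n⦌ ⟶ Δ.unop, (K.map φ.op).app U x ∈ Set.range ((f.app (op ⦋n⦌)).app U)

lemma inK'_map_C (Δ : SimplexCategoryᵒᵖ) {U V : Cᵒᵖ} (g : U ⟶ V) (x : (K.obj Δ).obj U)
    (hx : InK' f n Δ U x) : InK' f n Δ V ((K.obj Δ).map g x) := by
  intro φ
  obtain ⟨y, hy⟩ := hx φ
  refine ⟨(L.obj (op ⦋n⦌)).map g y, ?_⟩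
  rw [NatTrans.naturality_apply, hy]
  exact (NatTrans.naturality_apply (K.map φ.op) g x).symm

lemma inK'_map_Δ {Δ Δ' : SimplexCategoryᵒᵖ} (θ : Δ ⟶ Δ') (U : Cᵒᵖ) (x : (K.obj Δ).obj U)
    (hx : InK' f n Δ U x) : InK' f n Δ' U ((K.map θ).app U x) := by
  intro φ
  have := hx (φ ≫ θ.unop)
  have e : (K.map (φ ≫ θ.unop).op).app U x = (K.map φ.op).app U ((K.map θ).app U x) := by
    rw [op_comp, Quiver.Hom.op_unop, K.map_comp]
    rfl
  rw [← e]
  exact this

lemma inK'_of_f (Δ : SimplexCategoryᵒᵖ) (U : Cᵒᵖ) (x : (L.obj Δ).obj U) :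
    InK' f n Δ U ((f.app Δ).app U x) := by
  intro φ
  refine ⟨(L.map φ.op).app U x, ?_⟩
  have := congr_app (f.naturality φ.op) U
  exact types_congr_hom this x

/-- The presheaf `K'_Δ`. -/
def K'obj (Δ : SimplexCategoryᵒᵖ) : Cᵒᵖ ⥤ Type u where
  obj U := {x : (K.obj Δ).obj U // InK' f n Δ U x}
  map {U V} g := ↾(fun x => ⟨(K.obj Δ).map g x.1, inK'_map_C f n Δ g x.1 x.2⟩)
  map_id U := by
    ext x
    simp
  map_comp g h := by
    ext x
    simp

/-- The simplicial presheaf `K'`. -/
def K' : SimplicialObject (Cᵒᵖ ⥤ Type u) where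
  obj Δ := K'obj f n Δ
  map {Δ Δ'} θ :=
    { app := fun U => ↾(fun x => ⟨(K.map θ).app U x.1, inK'_map_Δ f n θ U x.1 x.2⟩)
      naturality := fun U V g => by
        ext x
        apply Subtype.ext
        exact NatTrans.naturality_apply (K.map θ) g x.1 }
  map_id Δ := by
    ext U x
    simp
  map_comp θ θ' := by
    ext U x
    simp

/-- The inclusion `K' ⟶ K`. -/
def ιK' : K' f n ⟶ K where
  app Δ :=
    { app := fun U => ↾(fun x => x.1)
      naturality := fun _ _ _ => rfl }
  naturality := fun _ _ _ => rfl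

/-- The factorization `L ⟶ K'`. -/
def f' : L ⟶ K' f n where
  app Δ :=
    { app := fun U => ↾(fun x => ⟨(f.app Δ).app U x, inK'_of_f f n Δ U x⟩)
      naturality := fun U V g => by
        ext x
        apply Subtype.ext
        exact NatTrans.naturality_apply (f.app Δ) g x }
  naturality := fun Δ Δ' θ => by
    ext U x
    apply Subtype.ext
    exact types_congr_hom (congr_app (f.naturality θ) U) x

lemma f'_ι : f' f n ≫ ιK' f n = f := rfl

lemma ιK'_injective (Δ : SimplexCategoryᵒᵖ) (U : Cᵒᵖ) :
    Function.Injective (((ιK' f n).app Δ).app U) :=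
  fun _ _ h => Subtype.ext h

end Kprime

end Groth.Agent.Lib.Helper6.HyperQI
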