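import Groth.Prelude.Def_Hyper
import Mathlib.CategoryTheory.Sites.Abelian
import Groth.Agent.Lib.Helper6.HyperQI.Kprime

/-!
# Local properties of `K' ⟶ K`, `W`-locality of the free functor, coskeletality under evaluation
-/

set_option autoImplicit false
set_option linter.unusedSectionVars false
set_option linter.unusedVariables false
set_option linter.unusedSimpArgs false
set_option linter.style.haveILetI false

noncomputable section

namespace Groth.Agent.Lib.Helper6.HyperQI

open CategoryTheory Limits SimplexCategory Simplicial Opposite SimplicialObject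

universe u

section FiniteInter

lemma exists_covering_le_of_finite {C : Type*} [Category C] (J : GrothendieckTopology C) {U : C}
    {ι : Type*} [Finite ι] (S : ι → Sieve U) (h : ∀ i, S i ∈ J U) :
    ∃ T : Sieve U, T ∈ J U ∧ ∀ i, T ≤ S i := by
  classical
  haveI := Fintype.ofFinite ι
  have key : ∀ s : Finset ι, ∃ T : Sieve U, T ∈ J U ∧ ∀ i ∈ s, T ≤ S i := by
    intro s
    induction s using Finset.induction_on with
    | empty => exact ⟨⊤, J.top_mem U, by simp⟩
    | insert a s ha ih =>
      obtain ⟨T, hT, hT'⟩ := ih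
      refine ⟨T ⊓ S a, J.intersection_covering hT (h a), ?_⟩
      intro i hi
      rcases Finset.mem_insert.1 hi with rfl | hi
      · exact inf_le_right
      · exact inf_le_left.trans (hT' i hi)
  obtain ⟨T, hT, hT'⟩ := key Finset.univ
  exact ⟨T, hT, fun i => hT' i (Finset.mem_univ i)⟩

end FiniteInter

section Loc

variable {C : Type u} [SmallCategory C] (J : GrothendieckTopology C)
  {L K : SimplicialObject (Cᵒᵖ ⥤ Type u)} (f : L ⟶ K) (n : ℕ)

lemma ιK'_isLocallySurjective [h2 : Presheaf.IsLocallySurjective J (f.app (op ⦋n⦌))]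
    (Δ : SimplexCategoryᵒᵖ) : Presheaf.IsLocallySurjective J ((ιK' f n).app Δ) where
  imageSieve_mem {U} y := by
    obtain ⟨T, hT, hT'⟩ := exists_covering_le_of_finite J
      (fun φ : ⦋n⦌ ⟶ Δ.unop =>
        Presheaf.imageSieve (f.app (op ⦋n⦌)) ((K.map φ.op).app (op U) y))
      (fun φ => Presheaf.IsLocallySurjective.imageSieve_mem _)
    refine J.superset_covering ?_ hT
    intro V g hg
    refine ⟨⟨(K.obj Δ).map g.op y, ?_⟩, rfl⟩
    intro φ
    obtain ⟨x, hx⟩ := hT' φ g hg
    refine ⟨x, ?_⟩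
    rw [hx]
    exact (NatTrans.naturality_apply (K.map φ.op) g.op y).symm

lemma ιK'_isLocallyInjective (Δ : SimplexCategoryᵒᵖ) :
    Presheaf.IsLocallyInjective J ((ιK' f n).app Δ) :=
  Presheaf.isLocallyInjective_of_injective J _ (fun U => ιK'_injective f n Δ U)

lemma ιK'_W [h2 : Presheaf.IsLocallySurjective J (f.app (op ⦋n⦌))] (Δ : SimplexCategoryᵒᵖ) :
    J.W ((ιK' f n).app Δ) := by
  haveI := ιK'_isLocallySurjective J f n Δ
  haveI := ιK'_isLocallyInjective J f n Δ
  exact J.W_of_isLocallyBijective _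

/-- The free abelian presheaf functor. -/
abbrev Fr (C : Type u) [SmallCategory C] : (Cᵒᵖ ⥤ Type u) ⥤ (Cᵒᵖ ⥤ AddCommGrpCat.{u}) :=
  (Functor.whiskeringRight Cᵒᵖ (Type u) AddCommGrpCat.{u}).obj AddCommGrpCat.free.{u}

lemma W_free {P Q : Cᵒᵖ ⥤ Type u} (g : P ⟶ Q) (hg : J.W g) : J.W ((Fr C).map g) := by
  intro Z hZ
  let adj := AddCommGrpCat.adj.{u}.whiskerRight Cᵒᵖ
  have hZ' : Presheaf.IsSheaf J (Z ⋙ forget AddCommGrpCat.{u}) :=
    Presheaf.isSheaf_comp_of_isSheaf J Z (forget AddCommGrpCat.{u}) hZ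
  have hb := hg (Z ⋙ forget AddCommGrpCat.{u}) hZ'
  have key : ∀ h : ((Fr C).obj Q ⟶ Z),
      adj.homEquiv P Z ((Fr C).map g ≫ h) = g ≫ adj.homEquiv Q Z h :=
    fun h => adj.homEquiv_naturality_left g h
  have e : (fun h : (Fr C).obj Q ⟶ Z => (Fr C).map g ≫ h) =
      (adj.homEquiv P Z).symm ∘ (fun k => g ≫ k) ∘ (adj.homEquiv Q Z) := by
    funext h
    simp only [Function.comp_apply]
    rw [← key, Equiv.symm_apply_apply]
  rw [e]
  exact (adj.homEquiv P Z).symm.bijective.comp (hb.comp (adj.homEquiv Q Z).bijective)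

lemma isIso_sheafify_free_ιK' [h2 : Presheaf.IsLocallySurjective J (f.app (op ⦋n⦌))]
    (Δ : SimplexCategoryᵒᵖ) :
    IsIso ((presheafToSheaf J AddCommGrpCat.{u}).map ((Fr C).map ((ιK' f n).app Δ))) :=
  (J.W_iff _).1 (W_free J _ (ιK'_W J f n Δ))

end Loc

section Cosk

lemma isCoskeletal_whiskering {E E' : Type*} [Category E] [Category E'] (G : E ⥤ E') (n : ℕ)
    (X : SimplicialObject E) [X.IsCoskeletal n]
    [G.PreservesRightKanExtension ((Truncated.inclusion n).op ⋙ X) (Truncated.inclusion n).op] :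
    (((SimplicialObject.whiskering E E').obj G).obj X).IsCoskeletal n := by
  constructor
  have h := Functor.PreservesRightKanExtension.preserves (G := G)
    (F := (Truncated.inclusion n).op ⋙ X) (L := (Truncated.inclusion n).op) X (𝟙 _)
  have e : (Functor.associator (Truncated.inclusion n).op X G).inv ≫
      Functor.whiskerRight (𝟙 ((Truncated.inclusion n).op ⋙ X)) G = 𝟙 _ := by
    ext
    simp
  rw [e] at h
  exact h

end Cosk

end Groth.Agent.Lib.Helper6.HyperQI
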