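import Groth.Agent.Lib.Helper6.HyperQI.Local
import Mathlib.Algebra.Homology.Functor
import Mathlib.Algebra.Homology.QuasiIso
import Mathlib.AlgebraicTopology.AlternatingFaceMapComplex

/-!
# Homology isomorphism for locally surjective maps of `n`-coskeletal simplicial presheaves
-/

set_option autoImplicit false
set_option linter.unusedSectionVars false
set_option linter.unusedVariables false
set_option linter.unusedSimpArgs false
set_option linter.style.haveILetI false
set_option maxHeartbeats 800000

noncomputable section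

namespace Groth.Agent.Lib.Helper6.HyperQI

open CategoryTheory Limits SimplexCategory Simplicial Opposite SimplicialObject

universe u

section Main

variable {C : Type u} [SmallCategory C] (J : GrothendieckTopology C)
  {L K : SimplicialObject (Cᵒᵖ ⥤ Type u)} (f : L ⟶ K) (n : ℕ)

/-- Evaluation of presheaves of sets at `U`. -/
abbrev evT (U : Cᵒᵖ) : (Cᵒᵖ ⥤ Type u) ⥤ Type u := (evaluation Cᵒᵖ (Type u)).obj U

theorem objectwise_section [L.IsCoskeletal n] [K.IsCoskeletal n]
    (h1 : ∀ i : ℕ, i < n → IsIso (f.app (op ⦋i⦌))) (U : Cᵒᵖ) :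
    ∃ s : ((SimplicialObject.whiskering _ _).obj (evT U)).obj (K' f n) ⟶
        ((SimplicialObject.whiskering _ _).obj (evT U)).obj L,
      s ≫ ((SimplicialObject.whiskering _ _).obj (evT U)).map (f' f n) = 𝟙 _ ∧
      Nonempty (SimplicialObject.Homotopy
        (((SimplicialObject.whiskering _ _).obj (evT U)).map (f' f n) ≫ s) (𝟙 _)) := by
  haveI : (((SimplicialObject.whiskering _ _).obj (evT U)).obj L).IsCoskeletal n :=
    isCoskeletal_whiskering (evT U) n L
  haveI : (((SimplicialObject.whiskering _ _).obj (evT U)).obj K).IsCoskeletal n :=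
    isCoskeletal_whiskering (evT U) n K
  have hbij : ∀ j, j < n → Function.Bijective ((f.app (op ⦋j⦌)).app U) := by
    intro j hj
    haveI := h1 j hj
    exact (isIso_iff_bijective _).1 inferInstance
  refine exists_section (((SimplicialObject.whiskering _ _).obj (evT U)).map (f' f n))
    (((SimplicialObject.whiskering _ _).obj (evT U)).map (ιK' f n)) n ?_ ?_ ?_
  · intro j hj
    rintro ⟨y, hy⟩
    rcases hj.lt_or_eq with hjn | hjn
    · obtain ⟨x, rfl⟩ := (hbij j hjn).2 y
      exact ⟨x, Subtype.ext rfl⟩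
    · subst hjn
      obtain ⟨x, hx⟩ := hy (𝟙 _)
      refine ⟨x, Subtype.ext ?_⟩
      simp at hx
      exact hx
  · intro j hj x x' h
    exact (hbij j hj).1 (congrArg Subtype.val h)
  · intro Δ
    exact ιK'_injective f n Δ U

open AlgebraicTopology in
theorem quasiIsoAt_presheaf [L.IsCoskeletal n] [K.IsCoskeletal n]
    (h1 : ∀ i : ℕ, i < n → IsIso (f.app (op ⦋i⦌))) (i : ℕ) :
    QuasiIsoAt ((alternatingFaceMapComplex (Cᵒᵖ ⥤ AddCommGrpCat.{u})).map
      (Functor.whiskerRight (f' f n) (Fr C))) i := by
  rw [HomologicalComplex.quasiIsoAt_iff_evaluation]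
  intro U
  have hE := map_alternatingFaceMapComplex ((evaluation Cᵒᵖ AddCommGrpCat.{u}).obj U)
  have hmap := Functor.congr_hom hE (Functor.whiskerRight (f' f n) (Fr C))
  change QuasiIsoAt ((alternatingFaceMapComplex (Cᵒᵖ ⥤ AddCommGrpCat.{u}) ⋙
    ((evaluation Cᵒᵖ AddCommGrpCat.{u}).obj U).mapHomologicalComplex _).map
      (Functor.whiskerRight (f' f n) (Fr C))) i
  rw [hmap]
  obtain ⟨s, hs1, hs2⟩ := objectwise_section f n h1 U
  haveI : QuasiIsoAt (((SimplicialObject.whiskering _ _).obj
      ((evaluation Cᵒᵖ AddCommGrpCat.{u}).obj U) ⋙ alternatingFaceMapComplex AddCommGrpCat.{u}).map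
        (Functor.whiskerRight (f' f n) (Fr C))) i := by
    rw [quasiIsoAt_iff_isIso_homologyMap]
    exact isIso_homologyMap_of_section AddCommGrpCat.free.{u} _ s hs1 hs2 i
  infer_instance

open AlgebraicTopology in
theorem main (h1 : ∀ i : ℕ, i < n → IsIso (f.app (op ⦋i⦌)))
    (h2 : Presheaf.IsLocallySurjective J (f.app (op ⦋n⦌)))
    [L.IsCoskeletal n] [K.IsCoskeletal n] (i : ℕ) :
    IsIso (HomologicalComplex.homologyMap
      ((alternatingFaceMapComplex (Sheaf J AddCommGrpCat.{u})).map
        (Functor.whiskerRight f (Fr C ⋙ presheafToSheaf J AddCommGrpCat.{u}))) i) := by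
  haveI := h2
  have hfac : Functor.whiskerRight f (Fr C ⋙ presheafToSheaf J AddCommGrpCat.{u}) =
      Functor.whiskerRight (f' f n) (Fr C ⋙ presheafToSheaf J AddCommGrpCat.{u}) ≫
        Functor.whiskerRight (ιK' f n) (Fr C ⋙ presheafToSheaf J AddCommGrpCat.{u}) := by
    rw [← Functor.whiskerRight_comp]
    rfl
  rw [hfac, Functor.map_comp, HomologicalComplex.homologyMap_comp]
  haveI hII : IsIso ((alternatingFaceMapComplex (Sheaf J AddCommGrpCat.{u})).map
      (Functor.whiskerRight (ιK' f n) (Fr C ⋙ presheafToSheaf J AddCommGrpCat.{u}))) := by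
    haveI : ∀ m : ℕ, IsIso (((alternatingFaceMapComplex (Sheaf J AddCommGrpCat.{u})).map
        (Functor.whiskerRight (ιK' f n) (Fr C ⋙ presheafToSheaf J AddCommGrpCat.{u}))).f m) :=
      fun m => isIso_sheafify_free_ιK' J f n (op ⦋m⦌)
    exact HomologicalComplex.Hom.isIso_of_components _
  haveI hII' : IsIso (HomologicalComplex.homologyMap
      ((alternatingFaceMapComplex (Sheaf J AddCommGrpCat.{u})).map
        (Functor.whiskerRight (ιK' f n) (Fr C ⋙ presheafToSheaf J AddCommGrpCat.{u}))) i) :=
    inferInstance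
  haveI hI : IsIso (HomologicalComplex.homologyMap
      ((alternatingFaceMapComplex (Sheaf J AddCommGrpCat.{u})).map
        (Functor.whiskerRight (f' f n) (Fr C ⋙ presheafToSheaf J AddCommGrpCat.{u}))) i) := by
    rw [← quasiIsoAt_iff_isIso_homologyMap]
    have hE := map_alternatingFaceMapComplex (presheafToSheaf J AddCommGrpCat.{u})
    have hmap := Functor.congr_hom hE.symm (Functor.whiskerRight (f' f n) (Fr C))
    change QuasiIsoAt (((SimplicialObject.whiskering _ _).obj
      (presheafToSheaf J AddCommGrpCat.{u}) ⋙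
        alternatingFaceMapComplex (Sheaf J AddCommGrpCat.{u})).map
          (Functor.whiskerRight (f' f n) (Fr C))) i
    rw [hmap]
    haveI := quasiIsoAt_presheaf f n h1 i
    haveI : QuasiIsoAt ((alternatingFaceMapComplex (Cᵒᵖ ⥤ AddCommGrpCat.{u}) ⋙
        (presheafToSheaf J AddCommGrpCat.{u}).mapHomologicalComplex _).map
          (Functor.whiskerRight (f' f n) (Fr C))) i := by
      show QuasiIsoAt (((presheafToSheaf J AddCommGrpCat.{u}).mapHomologicalComplex _).map _) i
      infer_instance
    infer_instance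
  infer_instance

end Main

end Groth.Agent.Lib.Helper6.HyperQI
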