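import Mathlib.CategoryTheory.Functor.KanExtension.Pointwise
import Mathlib.CategoryTheory.Functor.KanExtension.Preserves
import Mathlib.CategoryTheory.Limits.Shapes.Products

/-!
# Right Kan extensions into a category with enough coproducts are pointwise

If `R` is a right Kan extension of `F : A ⥤ H` along `L : A ⥤ B` and `H` has coproducts indexed
by the hom-sets of `B`, then `R` is a pointwise right Kan extension.
-/

set_option autoImplicit false
set_option linter.unusedSectionVars false
set_option linter.unusedVariables false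
set_option linter.unusedSimpArgs false
set_option linter.style.haveILetI false

noncomputable section

namespace Groth.Agent.Lib.Helper6.HyperQI

open CategoryTheory Limits

section PW

universe v₁ v₂ v₃ u₁ u₂ u₃

variable {A : Type u₁} [Category.{v₁} A] {B : Type u₂} [Category.{v₂} B]
  {H : Type u₃} [Category.{v₃} H]
  [∀ (c d : B), HasCoproductsOfShape (c ⟶ d) H]

/-- The functor `d ↦ ∐_{c ⟶ d} T`. -/
def copow (c : B) (T : H) : B ⥤ H where
  obj d := ∐ (fun _ : (c ⟶ d) => T)
  map {d d'} h := Sigma.desc (fun a => Sigma.ι (fun _ : (c ⟶ d') => T) (a ≫ h))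
  map_id d := by
    refine Sigma.hom_ext _ _ (fun a => ?_)
    simp
  map_comp h h' := by
    refine Sigma.hom_ext _ _ (fun a => ?_)
    simp

/-- The inclusion of the summand indexed by `a`. -/
def copowι (c : B) (T : H) {d : B} (a : c ⟶ d) : T ⟶ (copow c T).obj d :=
  Sigma.ι (fun _ : (c ⟶ d) => T) a

/-- Morphisms out of the coproduct. -/
def copowDesc (c : B) (T : H) {d : B} {Z : H} (p : (c ⟶ d) → (T ⟶ Z)) :
    (copow c T).obj d ⟶ Z :=
  Sigma.desc p

@[reassoc (attr := simp)]
lemma copowι_desc (c : B) (T : H) {d : B} {Z : H} (p : (c ⟶ d) → (T ⟶ Z)) (a : c ⟶ d) :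
    copowι c T a ≫ copowDesc c T p = p a :=
  Sigma.ι_desc p a

lemma copow_hom_ext (c : B) (T : H) {d : B} {Z : H} (f g : (copow c T).obj d ⟶ Z)
    (h : ∀ a : c ⟶ d, copowι c T a ≫ f = copowι c T a ≫ g) : f = g :=
  Sigma.hom_ext _ _ h

@[reassoc (attr := simp)]
lemma copowι_map (c : B) (T : H) {d d' : B} (h : d ⟶ d') (a : c ⟶ d) :
    copowι c T a ≫ (copow c T).map h = copowι c T (a ≫ h) := by
  simp [copow, copowι]

variable (L : A ⥤ B) (F : A ⥤ H)

/-- The natural transformation `L ⋙ copow c s.pt ⟶ F` attached to a cone. -/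
def copowCounit (c : B) (s : Cone (StructuredArrow.proj c L ⋙ F)) : L ⋙ copow c s.pt ⟶ F where
  app b := copowDesc c s.pt (fun a : c ⟶ L.obj b => s.π.app (StructuredArrow.mk a))
  naturality b b' u := by
    refine copow_hom_ext _ _ _ _ (fun a => ?_)
    have h := s.w (StructuredArrow.homMk u (by simp) :
      StructuredArrow.mk a ⟶ StructuredArrow.mk (a ≫ L.map u))
    rw [Functor.comp_map, copowι_map_assoc, copowι_desc, copowι_desc_assoc]
    exact h.symm

@[reassoc (attr := simp)]
lemma ι_copowCounit_app (c : B) (s : Cone (StructuredArrow.proj c L ⋙ F)) (b : A)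
    (a : c ⟶ L.obj b) :
    copowι c s.pt a ≫ (copowCounit L F c s).app b = s.π.app (StructuredArrow.mk a) := by
  simp [copowCounit]

variable {L F} (R : B ⥤ H) (ε : L ⋙ R ⟶ F) [R.IsRightKanExtension ε]

lemma lift_fac_mk (c : B) (s : Cone (StructuredArrow.proj c L ⋙ F)) {b : A} (a : c ⟶ L.obj b) :
    (copowι c s.pt (𝟙 c) ≫
      (R.liftOfIsRightKanExtension ε (copow c s.pt) (copowCounit L F c s)).app c) ≫
        R.map a ≫ ε.app b = s.π.app (StructuredArrow.mk a) := by
  have hγ := R.liftOfIsRightKanExtension_fac_app ε (copow c s.pt) (copowCounit L F c s) b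
  have hnat := (R.liftOfIsRightKanExtension ε (copow c s.pt) (copowCounit L F c s)).naturality a
  calc (copowι c s.pt (𝟙 c) ≫
      (R.liftOfIsRightKanExtension ε (copow c s.pt) (copowCounit L F c s)).app c) ≫
        R.map a ≫ ε.app b
      = copowι c s.pt (𝟙 c) ≫ ((copow c s.pt).map a ≫
          (R.liftOfIsRightKanExtension ε (copow c s.pt) (copowCounit L F c s)).app (L.obj b)) ≫
            ε.app b := by
        rw [hnat]; simp only [Category.assoc]
    _ = copowι c s.pt (𝟙 c) ≫ (copow c s.pt).map a ≫
          (copowCounit L F c s).app b := by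
        rw [Category.assoc, hγ]
    _ = s.π.app (StructuredArrow.mk a) := by
        rw [copowι_map_assoc, ι_copowCounit_app, Category.id_comp]

lemma lift_uniq (c : B) (s : Cone (StructuredArrow.proj c L ⋙ F)) (l : s.pt ⟶ R.obj c)
    (hl : ∀ {b : A} (a : c ⟶ L.obj b),
      l ≫ R.map a ≫ ε.app b = s.π.app (StructuredArrow.mk a)) :
    l = copowι c s.pt (𝟙 c) ≫
      (R.liftOfIsRightKanExtension ε (copow c s.pt) (copowCounit L F c s)).app c := by
  let γl : copow c s.pt ⟶ R :=
    { app := fun d => copowDesc c s.pt (fun a : c ⟶ d => l ≫ R.map a)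
      naturality := fun d d' h => by
        refine copow_hom_ext _ _ _ _ (fun a => ?_)
        simp }
  have hγl : γl = R.liftOfIsRightKanExtension ε (copow c s.pt) (copowCounit L F c s) := by
    refine R.hom_ext_of_isRightKanExtension ε _ _ ?_
    rw [R.liftOfIsRightKanExtension_fac ε]
    ext b
    refine copow_hom_ext _ _ _ _ (fun a => ?_)
    simp only [NatTrans.comp_app, Functor.whiskerLeft_app, ι_copowCounit_app, copowι_desc_assoc,
      Category.assoc, γl]
    exact hl a
  have h1 : l = copowι c s.pt (𝟙 c) ≫ γl.app c := by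
    simp [γl]
  calc l = copowι c s.pt (𝟙 c) ≫ γl.app c := h1
    _ = _ := by rw [hγl]

/-- A right Kan extension into a category with coproducts indexed by the hom-sets of the
target of `L` is a pointwise right Kan extension. -/
def isPointwiseOfCoproducts :
    (Functor.RightExtension.mk R ε).IsPointwiseRightKanExtension := fun c =>
  { lift := fun s => copowι c s.pt (𝟙 c) ≫
      (R.liftOfIsRightKanExtension ε (copow c s.pt) (copowCounit L F c s)).app c
    fac := fun s g => lift_fac_mk R ε c s g.hom
    uniq := fun s l hl => lift_uniq R ε c s l (fun {b} a => hl (StructuredArrow.mk a)) }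

variable (L F) in
lemma hasPointwiseRightKanExtension_of_coproducts [L.HasRightKanExtension F] :
    L.HasPointwiseRightKanExtension F :=
  (isPointwiseOfCoproducts (L.rightKanExtension F)
    (L.rightKanExtensionCounit F)).hasPointwiseRightKanExtension

end PW

end Groth.Agent.Lib.Helper6.HyperQI
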