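import Groth.Agent.Lib.Helper6.HyperQI.Main
import Mathlib.CategoryTheory.Sites.Adjunction
import Mathlib.CategoryTheory.Sites.PreservesSheafification

/-!
# Sheaf version: epimorphisms of `n`-coskeletal simplicial sheaves
-/

set_option autoImplicit false
set_option linter.unusedSectionVars false
set_option linter.unusedVariables false
set_option linter.unusedSimpArgs false
set_option linter.style.haveILetI false
set_option maxHeartbeats 800000

noncomputable section

namespace Groth.Agent.Lib.Helper6.HyperQI

open CategoryTheory Limits SimplexCategory Simplicial Opposite SimplicialObject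

universe u

section Psh

variable {C : Type u} [SmallCategory C] (J : GrothendieckTopology C)
  {L K : SimplicialObject (Cᵒᵖ ⥤ Type u)} (f : L ⟶ K) (n : ℕ)

lemma f'_surjective [L.IsCoskeletal n] [K.IsCoskeletal n]
    (h1 : ∀ i : ℕ, i < n → IsIso (f.app (op ⦋i⦌))) (Δ : SimplexCategoryᵒᵖ) (U : Cᵒᵖ) :
    Function.Surjective (((f' f n).app Δ).app U) := by
  obtain ⟨s, hs1, -⟩ := objectwise_section f n h1 U
  intro y
  refine ⟨s.app Δ y, ?_⟩
  exact types_congr_hom (congr_app hs1 Δ) y

lemma isLocallySurjective_all [L.IsCoskeletal n] [K.IsCoskeletal n]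
    (h1 : ∀ i : ℕ, i < n → IsIso (f.app (op ⦋i⦌)))
    [h2 : Presheaf.IsLocallySurjective J (f.app (op ⦋n⦌))] (Δ : SimplexCategoryᵒᵖ) :
    Presheaf.IsLocallySurjective J (f.app Δ) := by
  haveI := ιK'_isLocallySurjective J f n Δ
  haveI : Presheaf.IsLocallySurjective J ((f' f n).app Δ) :=
    Presheaf.isLocallySurjective_of_surjective J _ (fun U => f'_surjective f n h1 Δ U)
  exact Presheaf.isLocallySurjective_comp J ((f' f n).app Δ) ((ιK' f n).app Δ)

end Psh

section Sh

variable {C : Type u} [SmallCategory C] (J : GrothendieckTopology C)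

open AlgebraicTopology in
theorem sheaf_main {K L : SimplicialObject (Sheaf J (Type u))} (v : K ⟶ L) (n : ℕ)
    [K.IsCoskeletal n] [L.IsCoskeletal n]
    (h1 : ∀ p : ℕ, p < n → IsIso (v.app (op ⦋p⦌))) (h2 : Epi (v.app (op ⦋n⦌))) :
    (∀ p : ℕ, Epi (v.app (op ⦋p⦌))) ∧
    QuasiIso ((alternatingFaceMapComplex _).map
      (Functor.whiskerRight v (Sheaf.composeAndSheafify J AddCommGrpCat.free.{u}))) := by
  haveI : (((SimplicialObject.whiskering _ _).obj (sheafToPresheaf J (Type u))).obj K).IsCoskeletal n :=
    isCoskeletal_whiskering (sheafToPresheaf J (Type u)) n K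
  haveI : (((SimplicialObject.whiskering _ _).obj (sheafToPresheaf J (Type u))).obj L).IsCoskeletal n :=
    isCoskeletal_whiskering (sheafToPresheaf J (Type u)) n L
  have h1' : ∀ p : ℕ, p < n → IsIso ((((SimplicialObject.whiskering _ _).obj
      (sheafToPresheaf J (Type u))).map v).app (op ⦋p⦌)) := by
    intro p hp
    haveI := h1 p hp
    show IsIso ((sheafToPresheaf J (Type u)).map (v.app (op ⦋p⦌)))
    infer_instance
  haveI h2' : Presheaf.IsLocallySurjective J ((((SimplicialObject.whiskering _ _).obj
      (sheafToPresheaf J (Type u))).map v).app (op ⦋n⦌)) := by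
    haveI := h2
    exact (Sheaf.isLocallySurjective_iff_epi (v.app (op ⦋n⦌))).2 inferInstance
  constructor
  · intro p
    haveI : Sheaf.IsLocallySurjective (v.app (op ⦋p⦌)) :=
      isLocallySurjective_all J (((SimplicialObject.whiskering _ _).obj
        (sheafToPresheaf J (Type u))).map v) n h1' (op ⦋p⦌)
    infer_instance
  · refine ⟨fun i => ?_⟩
    rw [quasiIsoAt_iff_isIso_homologyMap]
    exact main J (((SimplicialObject.whiskering _ _).obj (sheafToPresheaf J (Type u))).map v) n
      h1' h2' i

end Sh

end Groth.Agent.Lib.Helper6.HyperQI
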